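import Groth.Agent.H83.Cubic.Lines
import Mathlib.Analysis.Complex.Polynomial.Basic

/-!
# Eckardt involutions

Translation between the matrix formulation and reflections at star points.
-/

set_option autoImplicit false
set_option linter.unusedSectionVars false

universe u v

open MvPolynomial

namespace Groth.Agent.H83.Cubic

variable {k : Type u} [Field k] [CharZero k] [IsAlgClosed k] {ι : Type v} [Fintype ι] [DecidableEq ι]
variable {f : MvPolynomial ι k} {T : (ι → k) →ₗ[k] (ι → k) →ₗ[k] (ι → k) →ₗ[k] k}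

/-- An involution fixing a hyperplane and scaling the cubic is the reflection of a star point. -/
theorem involution_eq (h : IsPolar f T) (hs : ∀ v, v ≠ 0 → T v v ≠ 0) (hn : 3 ≤ Fintype.card ι)
    {A : Matrix ι ι k} {e : ι → k} (he : e ≠ 0) (hfe : eval e f = 0)
    (hfin : Module.finrank k ↥(LinearMap.ker (Matrix.toLin' A - LinearMap.id)) + 1 = Fintype.card ι)
    (hAe : A.mulVec e = -e) {c : k}
    (hc : aeval (fun i => ∑ j, C (A i j) * X j) f = C c * f) :
    ∃ m : (ι → k) →ₗ[k] k, m e = 1 ∧ (∀ x y, T e x y = T e e x * m y + m x * T e e y) ∧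
      (∀ x, A.mulVec x = refl m e x) ∧ c = 1 ∧ Star T e := by
  obtain ⟨μ, hμ, hA⟩ := exists_refl_of_involution A he hfin hAe
  obtain ⟨hc1, hm⟩ := of_refl h hs hn hfe hμ (c := c) fun x => by
    rw [← hA]; exact (subst_eq_iff f f A c).1 hc x
  exact ⟨μ, hμ, hm, hA, hc1, Star.of_m h he hfe μ hm⟩

/-- The conjugate of the involution at `e'` by the involution at `e` is the involution at the
third point of the chord. -/
theorem conj_eq (h : IsPolar f T) (hs : ∀ v, v ≠ 0 → T v v ≠ 0) (hn : 3 ≤ Fintype.card ι)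
    {A A' A'' : Matrix ι ι k} {e e' e'' : ι → k} {m m' m'' : (ι → k) →ₗ[k] k}
    (he : Star T e) (he' : Star T e') (he'' : Star T e'') (hm1 : m e = 1) (hm1' : m' e' = 1)
    (hm : ∀ x y, T e x y = T e e x * m y + m x * T e e y)
    (hm' : ∀ x y, T e' x y = T e' e' x * m' y + m' x * T e' e' y)
    (hm'' : ∀ x y, T e'' x y = T e'' e'' x * m'' y + m'' x * T e'' e'' y)
    (hA : ∀ x, A.mulVec x = refl m e x) (hA' : ∀ x, A'.mulVec x = refl m' e' x)
    (hA'' : ∀ x, A''.mulVec x = refl m'' e'' x)
    (hL : T e e e' ≠ 0) {a b : k} (ha : a ≠ 0) (hb : b ≠ 0) (hz : a • e + b • e' = e'') :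
    A * A' * A = A'' := by
  have hfe' : eval e' f = 0 := by rw [h.eval_eq, he'.2.1]
  have hfz : eval e'' f = 0 := by rw [h.eval_eq, he''.2.1]
  have hz' : e'' = b • refl m e e' := by
    have h0 := eval_comb h he hfe' a b
    rw [hz, hfz] at h0
    have h1 : a * T e e e' + b * T e e' e' = 0 :=
      (mul_eq_zero.1 h0.symm).resolve_left (mul_ne_zero (mul_ne_zero (by norm_num) ha) hb)
    have ha' : a = b * -(T e e' e' / T e e e') := by field_simp; linear_combination h1
    rw [refl_chord h hm hL, ← hz, ha']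
    module
  set μ : (ι → k) →ₗ[k] k := b⁻¹ • (m' ∘ₗ refl m e) with hμ
  have hμ1 : μ e'' = 1 := by
    simp only [hμ, LinearMap.smul_apply, LinearMap.comp_apply, hz', map_smul, refl_refl hm1,
      hm1', smul_eq_mul, mul_one]
    exact mul_inv_cancel₀ hb
  have hμA : ∀ x, (A * A' * A).mulVec x = refl μ e'' x := by
    intro x
    simp only [← Matrix.mulVec_mulVec, hA, hA']
    rw [refl_apply m' e' (refl m e x), map_add, map_smul, refl_refl hm1, refl_apply μ e'' x,
      hz', smul_smul]
    congr 2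
    simp only [hμ, LinearMap.smul_apply, LinearMap.comp_apply, smul_eq_mul]
    field_simp
  obtain ⟨-, hμm⟩ := of_refl h hs hn hfz hμ1 (c := 1) fun x => by
    rw [← hμA]
    simp only [← Matrix.mulVec_mulVec, hA, hA', he.eval_refl h hm, he'.eval_refl h hm', one_mul]
  refine Matrix.ext_iff_mulVec.2 fun x => ?_
  rw [hμA, hA'', m_unique hs he''.1 hm'' hμm]

end Groth.Agent.H83.Cubic
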