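import Groth.Agent.H83.Cubic.Plane
import Mathlib.RingTheory.Nullstellensatz
import Mathlib.RingTheory.Ideal.KrullsHeightTheorem
import Mathlib.LinearAlgebra.Matrix.ToLinearEquiv

/-!
# A smooth plane cubic has two flexes

* `exists_star`: the Hessian meets the curve;
* `exists_two_stars`: two independent flexes.
-/

set_option autoImplicit false
set_option linter.unusedSectionVars false

universe u

open MvPolynomial

namespace Groth.Agent.H83.Cubic

variable {k : Type u} [Field k] [CharZero k] [IsAlgClosed k]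
variable {f : MvPolynomial (Fin 3) k}
  {T : (Fin 3 → k) →ₗ[k] (Fin 3 → k) →ₗ[k] (Fin 3 → k) →ₗ[k] k}

/-- Two polynomials in three variables vanishing at the origin have another common zero. -/
theorem exists_common_zero (P Q : MvPolynomial (Fin 3) k) (hP : eval (0 : Fin 3 → k) P = 0)
    (hQ : eval (0 : Fin 3 → k) Q = 0) : ∃ x, x ≠ 0 ∧ eval x P = 0 ∧ eval x Q = 0 := by
  classical
  by_contra hc
  push Not at hc
  set I : Ideal (MvPolynomial (Fin 3) k) := Ideal.span ({P, Q} : Set _)
  set M : Ideal (MvPolynomial (Fin 3) k) := RingHom.ker (eval (0 : Fin 3 → k))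
  have hM : M.IsPrime := RingHom.ker_isPrime _
  have hle : I ≤ M := by
    rw [Ideal.span_le]
    rintro _ (rfl | rfl) <;> assumption
  have hrad : M ≤ I.radical := by
    intro g hg
    rw [← MvPolynomial.vanishingIdeal_zeroLocus_eq_radical (K := k) I,
      MvPolynomial.mem_vanishingIdeal_iff]
    intro x hx
    rw [MvPolynomial.mem_zeroLocus_iff] at hx
    have hxP := hx P (Ideal.subset_span (by simp))
    have hxQ := hx Q (Ideal.subset_span (by simp))
    rw [show aeval x = (aeval x : MvPolynomial (Fin 3) k →ₐ[k] k) from rfl] at hxP hxQ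
    simp only [aeval_eq_eval] at hxP hxQ ⊢
    by_cases hx0 : x = 0
    · rw [hx0]; exact hg
    · exact absurd hxQ (hc x hx0 hxP)
  have hmin : M ∈ I.minimalPrimes :=
    ⟨⟨hM, hle⟩, fun p hp _ => hrad.trans (hp.1.radical_le_iff.2 hp.2)⟩
  have h2 : M.height ≤ 2 := by
    have := Ideal.height_le_card_of_mem_minimalPrimes_span_finset (s := ({P, Q} : Finset _))
      (p := M) (by simpa [I] using hmin)
    exact this.trans (by exact_mod_cast Finset.card_le_two)
  -- a chain of three primes below `M`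
  let σ : ℕ → MvPolynomial (Fin 3) k →ₐ[k] MvPolynomial (Fin 3) k := fun n =>
    aeval fun i : Fin 3 => if (i : ℕ) < n then 0 else X i
  have hp : ∀ n, (RingHom.ker (σ n)).IsPrime := fun n => RingHom.ker_isPrime _
  have hσX : ∀ n (i : Fin 3), σ n (X i) = if (i : ℕ) < n then 0 else X i := fun n i => aeval_X _ i
  have hcomp : ∀ n, (σ (n + 1)).comp (σ n) = σ (n + 1) := by
    intro n
    refine MvPolynomial.algHom_ext fun i => ?_
    rw [AlgHom.comp_apply, hσX n i]
    split_ifs with h
    · rw [map_zero, hσX, if_pos (h.trans (Nat.lt_succ_self n))]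
    · rfl
  have hlt : ∀ (n : ℕ) (hn : n < 3), RingHom.ker (σ n) < RingHom.ker (σ (n + 1)) := by
    intro n hn
    refine SetLike.lt_iff_le_and_exists.2 ⟨fun g hg => ?_, X ⟨n, hn⟩, ?_, ?_⟩
    · rw [RingHom.mem_ker] at hg ⊢
      rw [← hcomp n, AlgHom.comp_apply, hg, map_zero]
    · rw [RingHom.mem_ker, hσX, if_pos (Nat.lt_succ_self n)]
    · rw [RingHom.mem_ker, hσX, if_neg (lt_irrefl n)]
      exact X_ne_zero _
  have h3 : RingHom.ker (σ 3) ≤ M := by
    intro g hg
    rw [RingHom.mem_ker] at hg ⊢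
    have : ∀ g, (eval (0 : Fin 3 → k)) (σ 3 g) = eval 0 g := by
      intro g
      induction g using MvPolynomial.induction_on with
      | C a => simp [σ]
      | add p q hp hq => rw [map_add, map_add, map_add, hp, hq]
      | mul_X p i hp => simp [hp, hσX]
    rw [← this, hg, map_zero]
  have hfin : ∀ n, (RingHom.ker (σ n)).FiniteHeight := fun n => inferInstance
  have a1 := Ideal.height_strict_mono_of_isPrime_of_isPrime (hlt 0 (by omega))
  have a2 := Ideal.height_strict_mono_of_isPrime_of_isPrime (hlt 1 (by omega))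
  have a3 := Ideal.height_strict_mono_of_isPrime_of_isPrime (hlt 2 (by omega))
  have a4 := Ideal.height_mono h3
  have b1 : (1 : ℕ∞) ≤ (RingHom.ker (σ 1)).height :=
    ENat.one_le_iff_ne_zero.2 fun h => by rw [h] at a1; exact not_lt_zero' a1
  have b2 : (2 : ℕ∞) ≤ (RingHom.ker (σ 2)).height := by
    have := Order.add_one_le_of_lt (lt_of_le_of_lt b1 a2)
    simpa [one_add_one_eq_two] using this
  have b3 : (3 : ℕ∞) ≤ (RingHom.ker (σ 3)).height := by
    have := Order.add_one_le_of_lt (lt_of_le_of_lt b2 a3)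
    simpa [show (2 : ℕ∞) + 1 = 3 from rfl] using this
  exact absurd ((b3.trans a4).trans h2) (by decide)

/-- A point of the curve with singular Hessian matrix is a flex. -/
theorem star_of_kernel (h : IsPolar f T) (hs : ∀ v, v ≠ 0 → T v v ≠ 0) {p u : Fin 3 → k}
    (hp : p ≠ 0) (hfp : T p p p = 0) (hu : u ≠ 0) (hk : ∀ y, T p u y = 0) : Star T p := by
  have hi : LinearIndependent k ![p, u] := LinearIndependent.pair_iff.2 fun s t hst => by
    obtain ⟨y, hy⟩ := exists_apply_eq_one (hs p hp)
    have h2 := congrArg (fun z => T p z y) hst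
    simp only [map_add, map_smul, LinearMap.add_apply, LinearMap.smul_apply, map_zero,
      LinearMap.zero_apply, hy, hk, smul_eq_mul, mul_one, mul_zero, add_zero] at h2
    rw [h2, zero_smul, zero_add, smul_eq_zero] at hst
    exact ⟨h2, hst.resolve_right hu⟩
  have hpu : T p p u = 0 := by rw [h.symm₂ p p u]; exact hk p
  refine ⟨hp, hfp, fun x y hx hy => ?_⟩
  obtain ⟨a, b, rfl⟩ := span_eq_ker₂ (hs p hp) hi hfp hpu hx
  obtain ⟨c, d, rfl⟩ := span_eq_ker₂ (hs p hp) hi hfp hpu hy
  simp only [map_add, map_smul, LinearMap.add_apply, LinearMap.smul_apply, smul_eq_mul, hfp, hpu,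
    hk]
  ring

theorem exists_star (h : IsPolar f T) (hs : ∀ v, v ≠ 0 → T v v ≠ 0) : ∃ p, Star T p := by
  classical
  let e : Fin 3 → Fin 3 → k := fun i => Pi.single i 1
  let N : Matrix (Fin 3) (Fin 3) (MvPolynomial (Fin 3) k) :=
    Matrix.of fun i j => ∑ a, C (T (e a) (e i) (e j)) * X a
  have hsum : ∀ x : Fin 3 → k, x = ∑ a, x a • e a := fun x => by
    ext i; simp [e, Pi.single_apply]
  have hN : ∀ x : Fin 3 → k, eval x N.det = (Matrix.of fun i j => T x (e i) (e j)).det := by
    intro x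
    rw [RingHom.map_det]
    congr 1
    ext i j
    conv_rhs => rw [Matrix.of_apply, hsum x]
    simp [N, LinearMap.sum_apply, mul_comm]
  obtain ⟨p, hp, hfp, hH⟩ := exists_common_zero f N.det (by rw [h.eval_eq]; simp)
    (by
      rw [hN]
      refine Matrix.det_eq_zero_of_row_eq_zero 0 fun j => ?_
      simp)
  rw [hN, ← Matrix.exists_mulVec_eq_zero_iff] at hH
  obtain ⟨u, hu, hu0⟩ := hH
  refine ⟨p, star_of_kernel h hs hp (by rw [← h.eval_eq, hfp]) hu fun y => ?_⟩
  have hrow : ∀ i, T p u (e i) = 0 := by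
    intro i
    have := congrFun hu0 i
    simp only [Matrix.mulVec, dotProduct, Matrix.of_apply, Pi.zero_apply] at this
    rw [h.symm₂ p u (e i)]
    conv_lhs => rw [hsum u]
    rw [map_sum]
    simpa [mul_comm] using this
  rw [hsum y, map_sum]
  simp [hrow]

/-- A smooth plane cubic has two independent flexes. -/
theorem exists_two_stars (h : IsPolar f T) (hs : ∀ v, v ≠ 0 → T v v ≠ 0) :
    ∃ v v', Star T v ∧ Star T v' ∧ LinearIndependent k ![v, v'] := by
  obtain ⟨v, hv⟩ := exists_star h hs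
  obtain ⟨m, hm1, hm⟩ := hv.exists_m h hs
  obtain ⟨u, hu, hut⟩ : ∃ u, (T v v u = 0 ∧ m u = 0) ∧ u ≠ 0 := by
    have hrk := ((T v v).prod m).finrank_range_add_finrank_ker
    have hle := Submodule.finrank_le (LinearMap.range ((T v v).prod m))
    rw [Module.finrank_prod, Module.finrank_self] at hle
    rw [Module.finrank_fintype_fun_eq_card, Fintype.card_fin] at hrk
    have : LinearMap.ker ((T v v).prod m) ≠ ⊥ := fun h0 => by
      rw [h0, finrank_bot] at hrk; omega
    obtain ⟨w, hw, hw0⟩ := Submodule.exists_mem_ne_zero_of_ne_bot this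
    exact ⟨w, by simpa using hw, hw0⟩
  obtain ⟨y₀, hy₀⟩ := exists_apply_eq_one (hs v hv.1)
  obtain ⟨y, hy1, hy2⟩ : ∃ y, T v v y = 1 ∧ m y = 0 :=
    ⟨y₀ - m y₀ • v, by simp [hy₀, hv.2.1], by simp [hm1]⟩
  have hvy : ∀ z, T v y z = m z := fun z => by rw [hm, hy1, hy2]; ring
  have hvu : ∀ z, T v u z = 0 := fun z => by rw [hm, hu.1, hu.2]; ring
  have huuu : T u u u ≠ 0 := by
    intro h0
    obtain ⟨x, hx, hxf⟩ := exists_eval_ne_zero_of_ker h hs (by simp) (T v v)
    have hi : LinearIndependent k ![v, u] := LinearIndependent.pair_iff.2 fun s t hst => by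
      have hs0 : s = 0 := by simpa [hm1, hu.2] using congrArg m hst
      rw [hs0, zero_smul, zero_add, smul_eq_zero] at hst
      exact ⟨hs0, hst.resolve_right hut⟩
    obtain ⟨a, b, rfl⟩ := span_eq_ker₂ (hs v hv.1) hi hv.2.1 hu.1 hx
    exact hxf (by rw [eval_comb h hv (by rw [h.eval_eq, h0]), hu.1, hvu u]; ring)
  -- coefficients along `q = y + c • u`
  set g₀ := T y y y
  set g₁ := T y y u
  set g₂ := T y u u
  set g₃ := T u u u
  let PA : Polynomial k := Polynomial.C g₀ + Polynomial.C g₁ * Polynomial.X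
  let PB : Polynomial k := Polynomial.C g₁ + Polynomial.C g₂ * Polynomial.X
  let PC : Polynomial k := Polynomial.C g₂ + Polynomial.C g₃ * Polynomial.X
  let P : Polynomial k := PA * PC - PB * PB +
    Polynomial.C (1 / 3) * (PA + 2 * Polynomial.X * PB + Polynomial.X ^ 2 * PC) * PC
  have hP : P.coeff 4 = g₃ * g₃ / 3 := by
    have : P = Polynomial.C (g₀ * g₂ - g₁ * g₁ + g₀ * g₂ / 3) +
        Polynomial.C (g₀ * g₃ + g₁ * g₂ - 2 * g₁ * g₂ + (g₀ * g₃ + 3 * g₁ * g₂) / 3) * Polynomial.X +
        Polynomial.C (g₁ * g₃ - g₂ * g₂ + (3 * g₁ * g₃ + 3 * g₂ * g₂) / 3) * Polynomial.X ^ 2 +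
        Polynomial.C ((4 * g₂ * g₃) / 3) * Polynomial.X ^ 3 +
        Polynomial.C (g₃ * g₃ / 3) * Polynomial.X ^ 4 := by
      refine Polynomial.funext fun c => ?_
      simp only [P, PA, PB, PC, Polynomial.eval_add, Polynomial.eval_sub, Polynomial.eval_mul,
        Polynomial.eval_pow, Polynomial.eval_C, Polynomial.eval_X, Polynomial.eval_ofNat]
      ring
    rw [this]
    simp only [Polynomial.coeff_add, Polynomial.coeff_C_mul, Polynomial.coeff_X,
      Polynomial.coeff_C, Polynomial.coeff_X_pow]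
    norm_num
  obtain ⟨c, hc⟩ := IsAlgClosed.exists_root P (by
    intro hdeg
    have := Polynomial.coeff_eq_zero_of_degree_lt (p := P) (n := 4) (by rw [hdeg]; norm_num)
    rw [hP] at this
    simp [huuu] at this)
  set A := g₀ + c * g₁ with hA
  set B := g₁ + c * g₂ with hB
  set C' := g₂ + c * g₃ with hC
  have hc' : A * C' - B * B + 1 / 3 * (A + 2 * c * B + c ^ 2 * C') * C' = 0 := by
    simp only [P, PA, PB, PC, Polynomial.IsRoot.def, Polynomial.eval_add, Polynomial.eval_sub,
      Polynomial.eval_mul, Polynomial.eval_pow, Polynomial.eval_C, Polynomial.eval_X,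
      Polynomial.eval_ofNat] at hc
    rw [hA, hB, hC]
    linear_combination hc
  obtain ⟨a, ha⟩ := IsAlgClosed.exists_pow_nat_eq (-(A + 2 * c * B + c ^ 2 * C') / 3)
    (n := 2) (by norm_num)
  set p := a • v + y + c • u with hpdef
  have hmu : T u u u = g₃ := rfl
  have evals : ∀ r s t : k, ∀ r' s' t' : k, T p (r • v + s • y + t • u) (r' • v + s' • y + t' • u) =
      r * r' + a * (r * s' + s * r') + s * s' * A + (s * t' + t * s') * B + t * t' * C' := by
    intro r s t r' s' t'
    have i1 : T v y v = 1 := by rw [h.symm₂, hy1]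
    have i2 : T v u v = 0 := by rw [h.symm₂, hu.1]
    have i3 : ∀ z, T y v z = T v y z := fun z => h.symm₁ _ _ _
    have i4 : ∀ z, T u v z = T v u z := fun z => h.symm₁ _ _ _
    have i5 : T y y v = 0 := by rw [h.symm₂, i3, hvy, hy2]
    have i6 : T y u v = 0 := by rw [h.symm₂, i3, hvy, hu.2]
    have i7 : T u y v = 0 := by rw [h.symm₁, i6]
    have i8 : T u u v = 0 := by rw [h.symm₂, i4, hvu]
    have i9 : T y u y = g₁ := h.symm₂ _ _ _
    have i10 : T u y y = g₁ := by rw [h.symm₁, i9]
    have i11 : T u y u = g₂ := h.symm₁ _ _ _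
    have i12 : T u u y = g₂ := by rw [h.symm₂, i11]
    simp only [hpdef, map_add, map_smul, LinearMap.add_apply, LinearMap.smul_apply, smul_eq_mul,
      hv.2.1, hy1, hu.1, hvy, hvu, hm1, hy2, hu.2, i3, i4, i5, i6, i7, i8, i9, i10, i11, i12,
      show T y y y = g₀ from rfl, show T y y u = g₁ from rfl, show T y u u = g₂ from rfl,
      show T u u u = g₃ from rfl]
    rw [hA, hB, hC]
    ring
  have hind : ∀ r s t : k, r • v + s • y + t • u = 0 → r = 0 ∧ s = 0 ∧ t = 0 := by
    intro r s t hz
    have hr : r = 0 := by simpa [hm1, hy2, hu.2] using congrArg m hz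
    have hs0 : s = 0 := by simpa [hv.2.1, hy1, hu.1] using congrArg (T v v) hz
    rw [hr, hs0, zero_smul, zero_smul, zero_add, zero_add, smul_eq_zero] at hz
    exact ⟨hr, hs0, hz.resolve_right hut⟩
  have hp0 : p ≠ 0 := fun h0 => one_ne_zero (hind a 1 c (by rw [← h0, hpdef]; module)).2.1
  have hfp : T p p p = 0 := by
    have := evals a 1 c a 1 c
    rw [show a • v + (1 : k) • y + c • u = p by rw [hpdef]; module] at this
    rw [this]
    linear_combination (3 : k) * ha
  obtain ⟨s, t, hst, e1, e2⟩ : ∃ s t : k, (s ≠ 0 ∨ t ≠ 0) ∧ (A - a ^ 2) * s + B * t = 0 ∧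
      B * s + C' * t = 0 := by
    by_cases hBC : B = 0 ∧ C' = 0
    · exact ⟨0, 1, Or.inr one_ne_zero, by rw [hBC.1]; ring, by rw [hBC.2]; ring⟩
    · refine ⟨C', -B, ?_, ?_, by ring⟩
      · by_contra hne
        push Not at hne
        exact hBC ⟨neg_eq_zero.1 hne.2, hne.1⟩
      · linear_combination hc' - C' * ha
  have hstar : Star T p := by
    refine star_of_kernel h hs hp0 hfp (u := (-(a * s)) • v + s • y + t • u) (fun h0 => ?_)
      fun z => ?_
    · obtain ⟨-, h1, h2⟩ := hind _ _ _ h0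
      rcases hst with h3 | h3 <;> contradiction
    · have hz : z = m z • v + T v v z • y + (z - m z • v - T v v z • y) := by module
      have hz0 : ∃ b : k, z - m z • v - T v v z • y = b • u := by
        have hi : LinearIndependent k ![v, u] := LinearIndependent.pair_iff.2 fun r t hrt => by
          obtain ⟨h1, -, h2⟩ := hind r 0 t (by rw [← hrt]; module)
          exact ⟨h1, h2⟩
        obtain ⟨a', b, hab⟩ := span_eq_ker₂ (hs v hv.1) hi hv.2.1 hu.1
          (w := z - m z • v - T v v z • y) (by simp [hv.2.1, hy1])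
        have : a' = 0 := by simpa [hm1, hu.2, hy2] using congrArg m hab
        exact ⟨b, by rw [← hab, this]; module⟩
      obtain ⟨b, hb⟩ := hz0
      rw [hz, hb, evals]
      linear_combination (T v v z) * e1 + b * e2
  refine ⟨v, p, hv, hstar, LinearIndependent.pair_iff.2 fun r t hrt => ?_⟩
  obtain ⟨h1, h2, -⟩ := hind (r + t * a) t (t * c) (by rw [← hrt, hpdef]; module)
  rw [h2, zero_mul, add_zero] at h1
  exact ⟨h1, h2⟩

/-- Normal form of a smooth plane cubic: coordinates in which it is a Hesse cubic. -/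
theorem exists_hesse_basis (h : IsPolar f T) (hs : ∀ v, v ≠ 0 → T v v ≠ 0) :
    ∃ (P : Fin 3 → Fin 3 → k) (κ c : k), κ ^ 3 ≠ 1 ∧ c ≠ 0 ∧
      (∀ x y z : k, x • P 0 + y • P 1 + z • P 2 = 0 → x = 0 ∧ y = 0 ∧ z = 0) ∧
      ∀ x y z : k, eval (x • P 0 + y • P 1 + z • P 2) f =
        c * (x ^ 3 + y ^ 3 + z ^ 3 - 3 * κ * (x * y * z)) := by
  obtain ⟨v, v', hv, hv', hi⟩ := exists_two_stars h hs
  have hL := not_forall_span h hs hi
  have hfv : eval v f = 0 := by rw [h.eval_eq, hv.2.1]
  have hfv' : eval v' f = 0 := by rw [h.eval_eq, hv'.2.1]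
  set p := T v v v'
  set q := T v' v' v
  have hp : p ≠ 0 := fun h0 => hL ((forall_span_iff h hv hfv').2 h0)
  have hq : q ≠ 0 := fun h0 => hL (by
    rw [Set.pair_comm]; exact (forall_span_iff h hv' hfv).2 h0)
  obtain ⟨w, hw, hw0⟩ : ∃ w, (T v v w = 0 ∧ T v' v' w = 0) ∧ w ≠ 0 := by
    have hrk := ((T v v).prod (T v' v')).finrank_range_add_finrank_ker
    have hle := Submodule.finrank_le (LinearMap.range ((T v v).prod (T v' v')))
    rw [Module.finrank_prod, Module.finrank_self] at hle
    rw [Module.finrank_fintype_fun_eq_card, Fintype.card_fin] at hrk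
    have : LinearMap.ker ((T v v).prod (T v' v')) ≠ ⊥ := fun h0 => by
      rw [h0, finrank_bot] at hrk; omega
    obtain ⟨w, hw, hw0⟩ := Submodule.exists_mem_ne_zero_of_ne_bot this
    exact ⟨w, by simpa using hw, hw0⟩
  set σ := T v v' w
  set t := T w w w
  have hvww : T v w w = 0 := hv.2.2 w w hw.1 hw.1
  have hvww' : T v' w w = 0 := hv'.2.2 w w hw.2 hw.2
  have evals : ∀ a b c a' b' c' a'' b'' c'' : k,
      T (a • v + b • v' + c • w) (a' • v + b' • v' + c' • w) (a'' • v + b'' • v' + c'' • w) =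
      p * (a * a' * b'' + a * b' * a'' + b * a' * a'') +
        q * (b * b' * a'' + b * a' * b'' + a * b' * b'') +
        σ * (a * b' * c'' + a * c' * b'' + b * a' * c'' + b * c' * a'' + c * a' * b'' + c * b' * a'') +
        t * (c * c' * c'') := by
    intro a b c a' b' c' a'' b'' c''
    simp only [map_add, map_smul, LinearMap.add_apply, LinearMap.smul_apply, smul_eq_mul,
      h.symm₁ v' v, h.symm₁ w v, h.symm₁ w v', h.symm₂ v v' v, h.symm₂ v w v, h.symm₂ v w v',
      h.symm₂ v' w v', h.symm₂ v' v' v, h.symm₂ v' w v, h.symm₂ w w v, h.symm₂ w w v',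
      hv.2.1, hv'.2.1, hw.1, hw.2, hvww, hvww']
    simp only [p, q, σ, t, h.symm₃ v' v' v, h.symm₂ v v' v']
    ring
  have ht : t ≠ 0 := by
    intro ht0
    refine hs w hw0 (LinearMap.ext fun z => ?_)
    have hker : ∀ z, T v v z = 0 → T v' v' z = 0 → T w w z = 0 := by
      intro z hz hz'
      obtain ⟨a, b, rfl⟩ := span_eq_ker₂ (hs v hv.1) (a := v) (b := w)
        (LinearIndependent.pair_iff.2 fun r s hrs => by
          have hr : r = 0 := by
            have := congrArg (T v' v') hrs
            simpa [hw.2, show T v' v' v ≠ 0 from hq] using this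
          rw [hr, zero_smul, zero_add, smul_eq_zero] at hrs
          exact ⟨hr, hrs.resolve_right hw0⟩) hv.2.1 hw.1 hz
      simp [map_add, h.symm₃ w w v, hvww, show T w w w = 0 from ht0]
    have := hker (z - (T v v z / p) • v' - (T v' v' z / q) • v) (by simp [hv.2.1, p, hp, div_mul_cancel₀])
      (by simp [hv'.2.1, q, hq, div_mul_cancel₀])
    simpa [h.symm₃ w w v, h.symm₃ w w v', hvww, hvww'] using this
  have hind : ∀ a b c : k, a • v + b • v' + c • w = 0 → a = 0 ∧ b = 0 ∧ c = 0 := by
    intro a b c habc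
    have hb : b = 0 := by simpa [hv.2.1, hw.1, p, hp] using congrArg (T v v) habc
    have ha : a = 0 := by simpa [hv'.2.1, hw.2, q, hq] using congrArg (T v' v') habc
    rw [ha, hb, zero_smul, zero_smul, zero_add, zero_add, smul_eq_zero] at habc
    exact ⟨ha, hb, habc.resolve_right hw0⟩
  obtain ⟨ω, hω0⟩ := IsAlgClosed.exists_root
    (Polynomial.C (1 : k) * Polynomial.X ^ 2 + Polynomial.C 1 * Polynomial.X + Polynomial.C 1)
    (by rw [Polynomial.degree_quadratic one_ne_zero]; exact two_ne_zero)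
  have hω : ω ^ 2 + ω + 1 = 0 := by simpa [Polynomial.IsRoot.def] using hω0
  have hω3 : ω ^ 3 = 1 := by linear_combination (ω - 1) * hω
  have hωne : ω ≠ ω ^ 2 := fun he => by
    have h1 : 2 * ω + 1 = 0 := by linear_combination hω + he
    have h2 : (3 : k) = 0 := by linear_combination 4 * hω - (2 * ω + 1) * h1
    norm_num at h2
  by_cases hσ : σ = 0
  · obtain ⟨s, hs3⟩ := IsAlgClosed.exists_pow_nat_eq (-(3 / (p * q)) / t) (n := 3) (by norm_num)
    have hs0 : s ≠ 0 := fun h0 => by
      rw [h0, zero_pow (by norm_num)] at hs3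
      exact div_ne_zero (neg_ne_zero.2 (div_ne_zero (by norm_num) (mul_ne_zero hp hq))) ht hs3.symm
    refine ⟨![s • w, p⁻¹ • v + (ω / q) • v', p⁻¹ • v + (ω ^ 2 / q) • v'], 0, -(3 / (p * q)),
      by simp, neg_ne_zero.2 (div_ne_zero (by norm_num) (mul_ne_zero hp hq)), fun x y z hxyz => ?_,
      fun x y z => ?_⟩
    · simp only [Matrix.cons_val_zero, Matrix.cons_val_one, Matrix.cons_val] at hxyz
      obtain ⟨h1, h2, h3⟩ := hind ((y + z) / p) ((ω * y + ω ^ 2 * z) / q) (x * s)
        (by rw [← hxyz]; module)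
      rw [div_eq_zero_iff, or_iff_left hp] at h1
      rw [div_eq_zero_iff, or_iff_left hq] at h2
      have hy : y = 0 := (mul_eq_zero.1 (show (ω - ω ^ 2) * y = 0 by
        linear_combination h2 - ω ^ 2 * h1)).resolve_left (sub_ne_zero.2 hωne)
      exact ⟨(mul_eq_zero.1 h3).resolve_right hs0, hy, by simpa [hy] using h1⟩
    · simp only [Matrix.cons_val_zero, Matrix.cons_val_one, Matrix.cons_val]
      rw [show x • s • w + y • (p⁻¹ • v + (ω / q) • v') + z • (p⁻¹ • v + (ω ^ 2 / q) • v') =
        ((y + z) / p) • v + ((ω * y + ω ^ 2 * z) / q) • v' + (x * s) • w by module,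
        h.eval_eq, evals, hσ]
      have hts : t * s ^ 3 = -(3 / (p * q)) := by rw [hs3]; field_simp
      rw [show t * (x * s * (x * s) * (x * s)) = t * s ^ 3 * x ^ 3 by ring, hts]
      field_simp
      grind
  · have hK : (3 : k) / (p * q) ≠ 0 := div_ne_zero (by norm_num) (mul_ne_zero hp hq)
    set lam := t / (8 * σ ^ 3)
    have hlam : lam ≠ 0 := div_ne_zero ht (mul_ne_zero (by norm_num) (pow_ne_zero _ hσ))
    obtain ⟨r, hr⟩ := IsAlgClosed.exists_pow_nat_eq (1 + 27 * lam / (3 / (p * q))) (n := 3)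
      (by norm_num)
    have hr0 : r ≠ 0 := by
      intro h0
      rw [h0, zero_pow (by norm_num)] at hr
      have hrel : 8 * σ ^ 3 + 9 * t * (p * q) = 0 := by
        simp only [lam] at hr
        field_simp at hr
        linear_combination (-(1 : k) / 3) * hr
      refine hs ((-(1 / p)) • v + (-(1 / q)) • v' + (3 / (2 * σ)) • w) (fun h0 => ?_)
        (LinearMap.ext fun z => ?_)
      · exact div_ne_zero one_ne_zero hp (neg_eq_zero.1 (hind _ _ _ h0).1)
      · have hz : ∃ a b c : k, z = a • v + b • v' + c • w := by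
          obtain ⟨c, e, he⟩ := span_eq_ker₂ (hs v hv.1) (a := v) (b := w)
            (LinearIndependent.pair_iff.2 fun a c hac => by
              obtain ⟨h1, -, h3⟩ := hind a 0 c (by rw [← hac]; module)
              exact ⟨h1, h3⟩) hv.2.1 hw.1 (w := z - (T v v z / p) • v')
            (by simp [p, hp, div_mul_cancel₀])
          exact ⟨c, T v v z / p, e, by linear_combination (norm := module) -he⟩
        obtain ⟨a, b, c, rfl⟩ := hz
        rw [evals, LinearMap.zero_apply]
        field_simp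
        linear_combination c * hrel
    refine ⟨![(-(1 / (r * p))) • v + (-(1 / (r * q))) • v' + (3 / (2 * σ * r)) • w,
      (-(1 / p)) • v + (-(ω / q)) • v', (-(1 / p)) • v + (-(ω ^ 2 / q)) • v'], 1 / r, 3 / (p * q),
      ?_, hK, fun x y z hxyz => ?_, fun x y z => ?_⟩
    · intro h1
      rw [div_pow, one_pow, hr, div_eq_one_iff_eq (fun h0 => by
        rw [h0] at hr; exact hr0 (pow_eq_zero_iff three_ne_zero |>.1 hr))] at h1
      have : 27 * lam / (3 / (p * q)) = 0 := by linear_combination -h1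
      simp [hlam, hK, hp, hq] at this
    · simp only [Matrix.cons_val_zero, Matrix.cons_val_one, Matrix.cons_val] at hxyz
      obtain ⟨h1, h2, h3⟩ := hind (-(x / r + y + z) / p) (-(x / r + ω * y + ω ^ 2 * z) / q)
        (3 * x / (2 * σ * r)) (by rw [← hxyz]; module)
      rw [div_eq_zero_iff, or_iff_left (mul_ne_zero (mul_ne_zero two_ne_zero hσ) hr0)] at h3
      have hx : x = 0 := (mul_eq_zero.1 h3).resolve_left (by norm_num)
      rw [div_eq_zero_iff, or_iff_left hp, neg_eq_zero, hx, zero_div, zero_add] at h1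
      rw [div_eq_zero_iff, or_iff_left hq, neg_eq_zero, hx, zero_div, zero_add] at h2
      have hy : y = 0 := (mul_eq_zero.1 (show (ω - ω ^ 2) * y = 0 by
        linear_combination h2 - ω ^ 2 * h1)).resolve_left (sub_ne_zero.2 hωne)
      exact ⟨hx, hy, by simpa [hy] using h1⟩
    · simp only [Matrix.cons_val_zero, Matrix.cons_val_one, Matrix.cons_val]
      rw [show x • ((-(1 / (r * p))) • v + (-(1 / (r * q))) • v' + (3 / (2 * σ * r)) • w) +
          y • ((-(1 / p)) • v + (-(ω / q)) • v') + z • ((-(1 / p)) • v + (-(ω ^ 2 / q)) • v') =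
        (-(x / r + y + z) / p) • v + (-(x / r + ω * y + ω ^ 2 * z) / q) • v' +
          (3 * x / (2 * σ * r)) • w by module, h.eval_eq, evals]
      simp only [lam] at hr
      field_simp at hr ⊢
      grind

end Groth.Agent.H83.Cubic
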