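import Groth.Agent.H83.Cubic.Plane
import Groth.Prelude.Def_W4c5monodromycubicsHesse
import Mathlib.LinearAlgebra.Matrix.ToLinearEquiv
import Mathlib.LinearAlgebra.Matrix.Determinant.Basic

/-!
# The Hesse cubic
-/

set_option autoImplicit false
set_option linter.unusedSectionVars false
set_option linter.unusedSimpArgs false

universe u

open MvPolynomial

namespace Groth.Agent.H83.Cubic

variable {K : Type u} [Field K] [CharZero K]

/-- The polarisation of the Hesse cubic with parameter `k`. -/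
noncomputable def hesseT (k : K) :
    (Fin 3 → K) →ₗ[K] (Fin 3 → K) →ₗ[K] (Fin 3 → K) →ₗ[K] K :=
  (coordT (k := K) (0 : Fin 3) 0 0 + coordT 1 1 1 + coordT 2 2 2) +
    (-(k / 2)) • (coordT (k := K) (0 : Fin 3) 1 2 + coordT 0 2 1 + coordT 1 0 2 + coordT 1 2 0 + coordT 2 0 1 +
      coordT 2 1 0)

theorem hesseT_apply (k : K) (x y z : Fin 3 → K) :
    hesseT k x y z = x 0 * y 0 * z 0 + x 1 * y 1 * z 1 + x 2 * y 2 * z 2 -
      k / 2 * (x 0 * y 1 * z 2 + x 0 * y 2 * z 1 + x 1 * y 0 * z 2 + x 1 * y 2 * z 0 +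
        x 2 * y 0 * z 1 + x 2 * y 1 * z 0) := by
  simp only [hesseT, LinearMap.sub_apply, LinearMap.add_apply, LinearMap.smul_apply, coordT_apply,
    smul_eq_mul]
  ring

theorem eval_hesse (k : K) (x : Fin 3 → K) :
    eval x (HesseCubic.form k) =
      x 0 ^ 3 + x 1 ^ 3 + x 2 ^ 3 - 3 * k * (x 0 * x 1 * x 2) := by
  simp [HesseCubic.form]

theorem isPolar_hesse (k : K) : IsPolar (HesseCubic.form k) (hesseT k) := by
  refine ⟨fun x y z => ?_, fun x y z => ?_, fun x => ?_, fun x y => ?_⟩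
  · rw [hesseT_apply, hesseT_apply]; ring
  · rw [hesseT_apply, hesseT_apply]; ring
  · rw [hesseT_apply, eval_hesse]; ring
  · rw [hesseT_apply, Fin.sum_univ_three]
    simp [HesseCubic.form, pderiv_pow, pderiv_X, pderiv_mul, Pi.single_apply]
    ring

theorem hesse_smooth {k : K} (hk : k ^ 3 ≠ 1) :
    ∀ v : Fin 3 → K, v ≠ 0 → hesseT k v v ≠ 0 := by
  intro v hv h0
  have e : ∀ y, hesseT k v v y = 0 := fun y => by rw [h0]; rfl
  have e0 := e ![1, 0, 0]
  have e1 := e ![0, 1, 0]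
  have e2 := e ![0, 0, 1]
  simp only [hesseT_apply, Matrix.cons_val_zero, Matrix.cons_val_one, Matrix.cons_val] at e0 e1 e2
  have f0 : v 0 ^ 2 = k * (v 1 * v 2) := by linear_combination e0
  have f1 : v 1 ^ 2 = k * (v 0 * v 2) := by linear_combination e1
  have f2 : v 2 ^ 2 = k * (v 0 * v 1) := by linear_combination e2
  have hp : (1 - k ^ 3) * (v 0 * v 1 * v 2) ^ 2 = 0 := by
    have : v 0 ^ 2 * v 1 ^ 2 * v 2 ^ 2 =
        k * (v 1 * v 2) * (k * (v 0 * v 2)) * (k * (v 0 * v 1)) := by rw [f0, f1, f2]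
    linear_combination this
  have hp' : v 0 * v 1 * v 2 = 0 := by
    have := (mul_eq_zero.1 hp).resolve_left (sub_ne_zero.2 (Ne.symm hk))
    exact pow_eq_zero_iff two_ne_zero |>.1 this
  have h3 : ∀ i, v i ^ 3 = 0 := by
    intro i
    fin_cases i
    · show v 0 ^ 3 = 0; linear_combination v 0 * f0 + k * hp'
    · show v 1 ^ 3 = 0; linear_combination v 1 * f1 + k * hp'
    · show v 2 ^ 3 = 0; linear_combination v 2 * f2 + k * hp'
  exact hv (funext fun i => pow_eq_zero_iff three_ne_zero |>.1 (h3 i))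

/-- A flex of the Hesse cubic lies on the coordinate triangle. -/
theorem star_hesse_prod [IsAlgClosed K] {k : K} (hk : k ^ 3 ≠ 1) {v : Fin 3 → K}
    (hv : Star (hesseT k) v) : v 0 * v 1 * v 2 = 0 := by
  have h := isPolar_hesse k
  have hs := hesse_smooth hk
  obtain ⟨m, -, hm⟩ := hv.exists_m h hs
  have hrk := ((hesseT k v v).prod m).finrank_range_add_finrank_ker
  have hle := Submodule.finrank_le (LinearMap.range ((hesseT k v v).prod m))
  rw [Module.finrank_prod, Module.finrank_self] at hle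
  rw [Module.finrank_fintype_fun_eq_card, Fintype.card_fin] at hrk
  have : LinearMap.ker ((hesseT k v v).prod m) ≠ ⊥ := fun h0 => by
    rw [h0, finrank_bot] at hrk; omega
  obtain ⟨u, hu, hu0⟩ := Submodule.exists_mem_ne_zero_of_ne_bot this
  replace hu : hesseT k v v u = 0 ∧ m u = 0 := by simpa using hu
  have e : ∀ y, hesseT k v u y = 0 := fun y => by rw [hm, hu.1, hu.2]; ring
  have e0 := e ![1, 0, 0]
  have e1 := e ![0, 1, 0]
  have e2 := e ![0, 0, 1]
  simp only [hesseT_apply, Matrix.cons_val_zero, Matrix.cons_val_one, Matrix.cons_val] at e0 e1 e2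
  set M : Matrix (Fin 3) (Fin 3) K := !![2 * v 0, -k * v 2, -k * v 1;
    -k * v 2, 2 * v 1, -k * v 0; -k * v 1, -k * v 0, 2 * v 2]
  have hM : M.det = 0 := by
    refine Matrix.exists_mulVec_eq_zero_iff.1 ⟨u, hu0, funext fun i => ?_⟩
    fin_cases i <;> simp [M, Matrix.mulVec, dotProduct, Fin.sum_univ_three]
    · linear_combination 2 * e0
    · linear_combination 2 * e1
    · linear_combination 2 * e2
  rw [Matrix.det_fin_three] at hM
  simp [M] at hM
  have hv3 : hesseT k v v v = 0 := hv.2.1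
  rw [hesseT_apply] at hv3
  have h8 : 8 * (1 - k ^ 3) * (v 0 * v 1 * v 2) = 0 := by
    linear_combination hM + 2 * k ^ 2 * hv3
  exact (mul_eq_zero.1 h8).resolve_left
    (mul_ne_zero (by norm_num) (sub_ne_zero.2 (Ne.symm hk)))

theorem hesse_flex_identity {k γ : K} (hγ : γ ^ 3 = 1) (c t : K) (v w : Fin 3 → K)
    (h : (v = c • ![0, 1, -γ] ∧ w = ![1, -k * γ, 0]) ∨ (v = c • ![-γ, 0, 1] ∧ w = ![0, 1, -k * γ]) ∨
      (v = c • ![1, -γ, 0] ∧ w = ![-k * γ, 0, 1])) :
    eval (v + t • w) (HesseCubic.form k) = t ^ 3 * eval w (HesseCubic.form k) := by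
  rcases h with ⟨rfl, rfl⟩ | ⟨rfl, rfl⟩ | ⟨rfl, rfl⟩ <;>
    simp only [eval_hesse, Pi.add_apply, Pi.smul_apply, Matrix.cons_val_zero, Matrix.cons_val_one,
      Matrix.cons_val, smul_eq_mul] <;>
    linear_combination -(c ^ 3) * hγ

end Groth.Agent.H83.Cubic
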