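import Groth.Agent.H83.Cubic.Hesse
import Mathlib.Analysis.Complex.Polynomial.Basic
import Mathlib.RingTheory.RootsOfUnity.PrimitiveRoots
import Mathlib.RingTheory.RootsOfUnity.Complex

/-!
# Automorphisms of a general Hesse cubic

`card_aut`: the determinant one automorphisms of a general Hesse cubic are the 54 monomial ones.
-/

set_option autoImplicit false
set_option linter.unusedSectionVars false

open MvPolynomial

namespace Groth.Agent.H83.Cubic

/-- Parameters at which a Hesse cubic may have extra automorphisms. -/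
noncomputable def exceptionalSet (μ : Finset ℂ) : Finset ℂ :=
  (μ ×ˢ μ ×ˢ μ ×ˢ μ ×ˢ μ).biUnion fun t =>
    let α : ℂ := 3 * (t.2.2.2.1 * t.2.1 - t.2.2.2.2 * t.2.2.1 - t.1 * (t.2.1 - t.2.2.1)) /
      (t.2.2.2.1 - t.2.2.2.2)
    let β : ℂ := -3 * t.2.2.2.1 * α + 9 * t.2.2.2.1 * t.2.1 - 9 * t.2.1 * t.1
    (Polynomial.C 9 * Polynomial.X ^ 2 + Polynomial.C (-3 * (α + 3 * t.1)) * Polynomial.X +
      Polynomial.C (-β)).roots.toFinset

theorem mem_exceptionalSet {μ : Finset ℂ} {e₁ ε ε' δ δ' k α β : ℂ} (h1 : e₁ ∈ μ) (h2 : ε ∈ μ)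
    (h3 : ε' ∈ μ) (h4 : δ ∈ μ) (h5 : δ' ∈ μ) (hδ : δ ≠ δ')
    (hα : α * (δ - δ') = 3 * (δ * ε - δ' * ε' - e₁ * (ε - ε')))
    (hβ : β = -3 * δ * α + 9 * δ * ε - 9 * ε * e₁)
    (hk : 9 * k ^ 2 - 3 * k * (α + 3 * e₁) - β = 0) : k ∈ exceptionalSet μ := by
  simp only [exceptionalSet, Finset.mem_biUnion]
  refine ⟨⟨e₁, ε, ε', δ, δ'⟩, by simp [h1, h2, h3, h4, h5], ?_⟩
  have ha : α = 3 * (δ * ε - δ' * ε' - e₁ * (ε - ε')) / (δ - δ') := by
    rw [eq_div_iff (sub_ne_zero.2 hδ), hα]
  rw [Multiset.mem_toFinset, Polynomial.mem_roots']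
  refine ⟨fun h0 => ?_, ?_⟩
  · have := congrArg (fun P : Polynomial ℂ => P.coeff 2) h0
    simp [Polynomial.coeff_X, Polynomial.coeff_C] at this
  · simp only [Polynomial.IsRoot.def, Polynomial.eval_add, Polynomial.eval_mul,
      Polynomial.eval_C, Polynomial.eval_pow, Polynomial.eval_X, ← ha]
    rw [← hβ]
    linear_combination hk

theorem exists_omega : ∃ ω : ℂ, ω ^ 2 + ω + 1 = 0 := by
  obtain ⟨ω, hω0⟩ := IsAlgClosed.exists_root
    (Polynomial.C (1 : ℂ) * Polynomial.X ^ 2 + Polynomial.C 1 * Polynomial.X + Polynomial.C 1)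
    (by rw [Polynomial.degree_quadratic one_ne_zero]; exact two_ne_zero)
  exact ⟨ω, by simpa [Polynomial.IsRoot.def] using hω0⟩

theorem mem_mu {z : ℂ} : z ∈ Polynomial.nthRootsFinset 3 (1 : ℂ) ↔ z ^ 3 = 1 :=
  Polynomial.mem_nthRootsFinset (by norm_num) _

/-- The sum of cubes and the product of coordinates. -/
noncomputable def sP (x : Fin 3 → ℂ) : ℂ := x 0 ^ 3 + x 1 ^ 3 + x 2 ^ 3

/-- The product of the coordinates. -/
noncomputable def pP (x : Fin 3 → ℂ) : ℂ := x 0 * x 1 * x 2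

/-- A member of the pencil containing a line is one of the four triangles. -/
theorem pencil_line {u w : ℂ} (φ : (Fin 3 → ℂ) →ₗ[ℂ] ℂ)
    (h : ∀ x, φ x = 0 → u * sP x + w * pP x = 0) : u = 0 ∨ (w + 3 * u) = 0 ∨
      ∃ δ : ℂ, δ ^ 3 = 1 ∧ w = -3 * δ * u := by
  by_cases hu : u = 0
  · exact Or.inl hu
  refine Or.inr (Or.inr ⟨-w / (3 * u), ?_, by field_simp⟩)
  by_contra hne
  obtain ⟨x, hx, hxf⟩ := exists_eval_ne_zero_of_ker (isPolar_hesse (-w / (3 * u)))
    (hesse_smooth hne) (by simp) φ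
  refine hxf ?_
  have := h x hx
  rw [eval_hesse]
  simp only [sP, pP] at this
  field_simp
  linear_combination this

theorem triangle_zero {ε : ℂ} (hε : ε ^ 3 = 1) (x : Fin 3 → ℂ) (hx : x 0 + x 1 + ε * x 2 = 0) :
    sP x - 3 * ε * pP x = 0 := by
  simp only [sP, pP]
  have hx0 : x 0 = -(x 1 + ε * x 2) := by linear_combination hx
  rw [hx0]
  linear_combination -(x 2 ^ 3) * hε

theorem det_hessian (k : ℂ) (x : Fin 3 → ℂ) :
    (Matrix.of fun i j => hesseT k x (Pi.single i 1) (Pi.single j 1)).det =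
      ((4 - k ^ 3) * pP x - k ^ 2 * sP x) / 4 := by
  rw [Matrix.det_fin_three]
  simp [hesseT_apply, Pi.single_apply, sP, pP]
  ring

theorem hessian_map {k c : ℂ} {A : Matrix (Fin 3) (Fin 3) ℂ} (hdet : A.det = 1)
    (hA : ∀ x, eval (A.mulVec x) (HesseCubic.form k) = c * eval x (HesseCubic.form k))
    (x : Fin 3 → ℂ) :
    (4 - k ^ 3) * pP (A.mulVec x) - k ^ 2 * sP (A.mulVec x) =
      c ^ 3 * ((4 - k ^ 3) * pP x - k ^ 2 * sP x) := by
  have hmat : A.transpose * (Matrix.of fun i j =>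
        hesseT k (A.mulVec x) (Pi.single i 1) (Pi.single j 1)) * A =
      c • Matrix.of fun i j => hesseT k x (Pi.single i 1) (Pi.single j 1) := by
    ext i j
    have := (isPolar_hesse k).map_eq (g := A.mulVecLin) (c := c) hA x (Pi.single i 1)
      (Pi.single j 1)
    simp only [Matrix.mulVecLin_apply] at this
    rw [Matrix.smul_apply, Matrix.of_apply, smul_eq_mul, ← this]
    simp only [Matrix.mul_apply, Matrix.transpose_apply, Matrix.of_apply, Fin.sum_univ_three,
      hesseT_apply]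
    simp [Pi.single_apply, Matrix.mulVec, dotProduct, Fin.sum_univ_three]
    ring
  have hd := congrArg Matrix.det hmat
  rw [Matrix.det_mul, Matrix.det_mul, Matrix.det_transpose, hdet, Matrix.det_smul, det_hessian,
    det_hessian, Fintype.card_fin] at hd
  linear_combination 4 * hd

theorem sP_pP_coeff {a b : ℂ} (h : ∀ x : Fin 3 → ℂ, a * sP x + b * pP x = 0) : a = 0 ∧ b = 0 := by
  have h1 := h ![1, 0, 0]
  have h2 := h ![1, 1, 1]
  simp [sP, pP] at h1 h2
  subst h1
  simpa using h2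

variable {k : ℂ}

/-- An automorphism of a general Hesse cubic scales both `x³+y³+z³` and `xyz`. -/
theorem aut_pencil (hk0 : k ≠ 0) (hk : k ^ 3 ≠ 1)
    (hkT : k ∉ exceptionalSet (Polynomial.nthRootsFinset 3 (1 : ℂ)))
    {A : Matrix (Fin 3) (Fin 3) ℂ} (hdet : A.det = 1) {c : ℂ}
    (hA : ∀ x, eval (A.mulVec x) (HesseCubic.form k) = c * eval x (HesseCubic.form k)) :
    c ≠ 0 ∧ ∀ x, sP (A.mulVec x) = c * sP x ∧ pP (A.mulVec x) = c * pP x := by
  have hsurj : Function.Surjective A.mulVec := Matrix.mulVec_surjective_iff_isUnit.2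
    ((Matrix.isUnit_iff_isUnit_det A).2 (hdet ▸ isUnit_one))
  have hc : c ≠ 0 := by
    intro h0
    obtain ⟨x, hx⟩ := hsurj ![1, 0, 0]
    have := hA x
    rw [hx, h0, eval_hesse] at this
    simp at this
  refine ⟨hc, ?_⟩
  have h1 : ∀ x, sP (A.mulVec x) - 3 * k * pP (A.mulVec x) = c * (sP x - 3 * k * pP x) :=
    fun x => by
      have := hA x
      rw [eval_hesse, eval_hesse] at this
      simpa only [sP, pP] using this
  have h2 := hessian_map hdet hA
  have hD : (4 : ℂ) * (1 - k ^ 3) ≠ 0 := mul_ne_zero (by norm_num) (sub_ne_zero.2 (Ne.symm hk))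
  set a := (k ^ 2 * c - c ^ 3 * k ^ 2) / (4 * (1 - k ^ 3))
  set b := (-3 * k ^ 3 * c + c ^ 3 * (4 - k ^ 3)) / (4 * (1 - k ^ 3))
  have hp : ∀ x, pP (A.mulVec x) = a * sP x + b * pP x := fun x => by
    simp only [a, b]
    field_simp
    linear_combination k ^ 2 * h1 x + h2 x
  set a' := c + 3 * k * a with ha'
  set b' := -3 * k * c + 3 * k * b with hb'
  have hs : ∀ x, sP (A.mulVec x) = a' * sP x + b' * pP x := fun x => by
    rw [ha', hb']
    linear_combination h1 x + 3 * k * hp x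
  -- members of the pencil containing lines
  have hptri : a = 0 ∨ ∃ e₁ : ℂ, e₁ ^ 3 = 1 ∧ b = -3 * e₁ * a := by
    rcases pencil_line (u := a) (w := b) (LinearMap.proj 0 ∘ₗ A.mulVecLin) (fun x hx => by
      rw [← hp]; simp only [LinearMap.comp_apply, LinearMap.proj_apply,
        Matrix.mulVecLin_apply] at hx
      simp [pP, hx]) with h | h | h
    · exact Or.inl h
    · exact Or.inr ⟨1, one_pow 3, by linear_combination h⟩
    · exact Or.inr h
  have htri : ∀ ε : ℂ, ε ^ 3 = 1 → a' - 3 * ε * a = 0 ∨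
      ∃ δ : ℂ, δ ^ 3 = 1 ∧ b' - 3 * ε * b = -3 * δ * (a' - 3 * ε * a) := by
    intro ε hε
    rcases pencil_line (u := a' - 3 * ε * a) (w := b' - 3 * ε * b)
      ((LinearMap.proj (R := ℂ) (φ := fun _ : Fin 3 => ℂ) 0 +
        LinearMap.proj (R := ℂ) (φ := fun _ : Fin 3 => ℂ) 1 +
        ε • LinearMap.proj (R := ℂ) (φ := fun _ : Fin 3 => ℂ) 2) ∘ₗ A.mulVecLin) (fun x hx => by
        simp only [LinearMap.comp_apply, Matrix.mulVecLin_apply, LinearMap.add_apply,
          LinearMap.smul_apply, LinearMap.proj_apply, smul_eq_mul] at hx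
        have := triangle_zero hε (A.mulVec x) hx
        rw [hs, hp] at this
        linear_combination this) with h | h | h
    · exact Or.inl h
    · exact Or.inr ⟨1, one_pow 3, by linear_combination h⟩
    · exact Or.inr h
  obtain ⟨ω, hω⟩ := exists_omega
  have hω3 : ω ^ 3 = 1 := by linear_combination (ω - 1) * hω
  have hω6 : (ω ^ 2) ^ 3 = 1 := by linear_combination (ω ^ 3 + 1) * hω3
  have hw1 : ω ≠ 1 := fun h => by rw [h] at hω; norm_num at hω
  have hw0 : ω ≠ 0 := fun h => by rw [h] at hω; norm_num at hω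
  have hw2 : ω ^ 2 ≠ 1 := fun h => hw1 (by
    have : ω ^ 3 = ω := by rw [pow_succ, h, one_mul]
    rw [hω3] at this; exact this.symm)
  have hw12 : ω ≠ ω ^ 2 := fun h => hw1 (mul_left_cancel₀ hw0 (by rw [mul_one, ← sq, ← h]))
  by_cases ha : a = 0
  · have ha'' : a' = c := by rw [ha', ha]; ring
    have hb : b ≠ 0 := by
      intro hb
      obtain ⟨x, hx⟩ := hsurj ![1, 1, 1]
      have := hp x
      rw [hx, ha, hb] at this
      simp [pP] at this
    have hcube : ∀ ε : ℂ, ε ^ 3 = 1 → (3 * ε * b - b') ^ 3 = (3 * c) ^ 3 := by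
      intro ε hε
      rcases htri ε hε with h | ⟨δ, hδ, h⟩
      · rw [ha, ha''] at h; exact absurd (by simpa using h) hc
      · rw [ha, ha''] at h
        have h' : 3 * ε * b - b' = 3 * δ * c := by linear_combination -h
        rw [h']
        linear_combination (3 * c) ^ 3 * hδ
    have q0 := hcube 1 (one_pow 3)
    have q1 := hcube ω hω3
    have q2 := hcube (ω ^ 2) hω6
    have hb0 : b' = 0 := by
      have : b ^ 2 * b' = 0 := by
        grind
      exact (mul_eq_zero.1 this).resolve_left (pow_ne_zero _ hb)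
    have hbc : b = c := by
      have : 3 * k * (b - c) = 0 := by
        rw [hb0] at hb'; linear_combination -hb'
      exact sub_eq_zero.1 ((mul_eq_zero.1 this).resolve_left (mul_ne_zero (by norm_num) hk0))
    intro x
    exact ⟨by rw [hs, ha'', hb0]; ring, by rw [hp, ha, hbc]; ring⟩
  · exfalso
    obtain ⟨e₁, he₁, hbe⟩ := hptri.resolve_left ha
    have hne2 : ∀ ε ε' : ℂ, ε ≠ ε' → a' - 3 * ε * a = 0 → a' - 3 * ε' * a ≠ 0 := fun ε ε' hne h h' =>
      hne (mul_right_cancel₀ ha (by linear_combination (-(1 : ℂ) / 3) * (h - h')))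
    obtain ⟨ε, ε', hε, hε', hne, h, h'⟩ : ∃ ε ε' : ℂ, ε ^ 3 = 1 ∧ ε' ^ 3 = 1 ∧ ε ≠ ε' ∧
        a' - 3 * ε * a ≠ 0 ∧ a' - 3 * ε' * a ≠ 0 := by
      by_cases h0 : a' - 3 * 1 * a = 0
      · exact ⟨ω, ω ^ 2, hω3, hω6, hw12, hne2 _ _ hw1.symm h0, hne2 _ _ hw2.symm h0⟩
      · by_cases h1 : a' - 3 * ω * a = 0
        · exact ⟨1, ω ^ 2, one_pow 3, hω6, hw2.symm, h0, hne2 _ _ hw12 h1⟩
        · exact ⟨1, ω, one_pow 3, hω3, hw1.symm, h0, h1⟩
    obtain ⟨δ, hδ, eδ⟩ := (htri ε hε).resolve_left h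
    obtain ⟨δ', hδ', eδ'⟩ := (htri ε' hε').resolve_left h'
    set α := a' / a
    set β := b' / a
    have hα : a' = α * a := by simp only [α]; field_simp
    have hβ : b' = β * a := by simp only [β]; field_simp
    rw [hα, hβ, hbe] at eδ eδ'
    have f : β = -3 * δ * α + 9 * δ * ε - 9 * ε * e₁ :=
      mul_right_cancel₀ ha (by linear_combination eδ)
    have f' : β = -3 * δ' * α + 9 * δ' * ε' - 9 * ε' * e₁ :=
      mul_right_cancel₀ ha (by linear_combination eδ')
    have hαc : (α - 3 * k) * a = c := by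
      linear_combination -hα + ha'
    have hquad : 9 * k ^ 2 - 3 * k * (α + 3 * e₁) - β = 0 :=
      mul_right_cancel₀ ha (by
        linear_combination hβ - hb' - 3 * k * hαc - 3 * k * hbe)
    by_cases hδδ : δ = δ'
    · have he : e₁ = δ := by
        have : (ε - ε') * (e₁ - δ) = 0 := by
          rw [← hδδ] at f'
          linear_combination ((1 : ℂ) / 9) * (f - f')
        exact sub_eq_zero.1 ((mul_eq_zero.1 this).resolve_left (sub_ne_zero.2 hne))
      have : (k - δ) * (α - 3 * k) = 0 := by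
        rw [f, he] at hquad
        linear_combination (-(1 : ℂ) / 3) * hquad
      rcases mul_eq_zero.1 this with h0 | h0
      · exact hk (by rw [sub_eq_zero.1 h0]; exact hδ)
      · exact hc (by rw [← hαc, h0, zero_mul])
    · refine hkT (mem_exceptionalSet (mem_mu.2 he₁) (mem_mu.2 hε) (mem_mu.2 hε') (mem_mu.2 hδ)
        (mem_mu.2 hδ') hδδ ?_ f hquad)
      linear_combination (-(1 : ℂ) / 3) * (f' - f)

/-- Linear forms with product zero on a plane: one of them vanishes there. -/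
theorem exists_forms_zero (u v : Fin 3 → ℂ) (h : ∀ t : ℂ, ∏ i, (u i * t + v i) = 0) :
    ∃ i, u i = 0 ∧ v i = 0 := by
  have h0 : (∏ i, (Polynomial.C (u i) * Polynomial.X + Polynomial.C (v i))) = 0 :=
    Polynomial.funext fun t => by simpa [Polynomial.eval_prod] using h t
  obtain ⟨i, -, hi⟩ := Finset.prod_eq_zero_iff.1 h0
  exact ⟨i, by simpa [Polynomial.coeff_C] using congrArg (fun P : Polynomial ℂ => P.coeff 1) hi,
    by simpa using congrArg (fun P : Polynomial ℂ => P.coeff 0) hi⟩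

/-- The monomial matrix. -/
noncomputable def monMat (σ : Equiv.Perm (Fin 3)) (d : Fin 3 → ℂ) : Matrix (Fin 3) (Fin 3) ℂ :=
  (Matrix.diagonal d).submatrix σ.symm id

theorem monMat_apply (σ : Equiv.Perm (Fin 3)) (d : Fin 3 → ℂ) (i j : Fin 3) :
    monMat σ d i j = if i = σ j then d j else 0 := by
  simp only [monMat, Matrix.submatrix_apply, id, Matrix.diagonal_apply, Equiv.symm_apply_eq]
  split_ifs with h
  · rw [h, Equiv.symm_apply_apply]
  · rfl

theorem monMat_mulVec (σ : Equiv.Perm (Fin 3)) (d x : Fin 3 → ℂ) (i : Fin 3) :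
    (monMat σ d).mulVec x i = d (σ.symm i) * x (σ.symm i) := by
  simp [monMat, Matrix.mulVec, dotProduct, Matrix.submatrix_apply, Matrix.diagonal_apply]

theorem monMat_det (σ : Equiv.Perm (Fin 3)) (d : Fin 3 → ℂ) :
    (monMat σ d).det = ((Equiv.Perm.sign σ : ℤ) : ℂ) * ∏ i, d i := by
  rw [monMat, Matrix.det_permute, Matrix.det_diagonal, Equiv.Perm.sign_symm]

theorem pP_monMat (σ : Equiv.Perm (Fin 3)) (d x : Fin 3 → ℂ) :
    pP ((monMat σ d).mulVec x) = (∏ i, d i) * pP x := by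
  have h1 : pP ((monMat σ d).mulVec x) = ∏ i, d (σ.symm i) * x (σ.symm i) := by
    rw [Fin.prod_univ_three]; simp [pP, monMat_mulVec]
  rw [h1, Equiv.prod_comp σ.symm fun j => d j * x j, Finset.prod_mul_distrib,
    Fin.prod_univ_three x]
  rfl

theorem sP_monMat (σ : Equiv.Perm (Fin 3)) (d x : Fin 3 → ℂ) :
    sP ((monMat σ d).mulVec x) = ∑ i, d i ^ 3 * x i ^ 3 := by
  have h1 : sP ((monMat σ d).mulVec x) = ∑ i, d (σ.symm i) ^ 3 * x (σ.symm i) ^ 3 := by
    rw [Fin.sum_univ_three]; simp [sP, monMat_mulVec, mul_pow]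
  rw [h1, Equiv.sum_comp σ.symm fun j => d j ^ 3 * x j ^ 3]

/-- A determinant one automorphism is monomial. -/
theorem exists_monMat {A : Matrix (Fin 3) (Fin 3) ℂ} (hdet : A.det = 1) {c : ℂ}
    (h : ∀ x, sP (A.mulVec x) = c * sP x ∧ pP (A.mulVec x) = c * pP x) :
    ∃ σ d, A = monMat σ d ∧ (∀ i, d i ^ 3 = c) ∧ ∏ i, d i = c ∧
      c = ((Equiv.Perm.sign σ : ℤ) : ℂ) := by
  classical
  have hrow : ∀ i, ∃ j, A i j ≠ 0 := by
    intro i
    by_contra hc
    push Not at hc
    rw [Matrix.det_eq_zero_of_row_eq_zero i hc] at hdet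
    exact zero_ne_one hdet
  have hcol : ∀ j, ∃ i, ∀ l, l ≠ j → A i l = 0 := by
    intro j
    obtain ⟨i, hu, hv⟩ := exists_forms_zero (fun i => A i (j + 1)) (fun i => A i (j + 2)) fun t => by
      have := (h (Pi.single (j + 1) t + Pi.single (j + 2) 1)).2
      rw [Fin.prod_univ_three]
      simp only [pP, Matrix.mulVec_add, Matrix.mulVec_single, Pi.add_apply] at this
      simp at this
      rw [this]
      fin_cases j <;> simp
    refine ⟨i, fun l hl => ?_⟩
    have key : ∀ a b : Fin 3, b ≠ a → b = a + 1 ∨ b = a + 2 := by decide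
    have : l = j + 1 ∨ l = j + 2 := key j l hl
    rcases this with rfl | rfl <;> assumption
  choose π hπ using hcol
  have hinj : Function.Injective π := by
    intro j j' e
    by_contra hne
    obtain ⟨l, hl⟩ := hrow (π j)
    by_cases h1 : l = j
    · exact hl (e ▸ hπ j' l (h1 ▸ hne))
    · exact hl (hπ j l h1)
  let σ : Equiv.Perm (Fin 3) := Equiv.ofBijective π ⟨hinj, Finite.surjective_of_injective hinj⟩
  have hA : A = monMat σ fun j => A (σ j) j := by
    ext i l
    rw [monMat_apply]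
    split_ifs with h1
    · rw [h1]
    · obtain ⟨j, rfl⟩ := σ.surjective i
      exact hπ j l fun h2 => h1 (by rw [h2])
  have hd : ∀ i, A (σ i) i ^ 3 = c := by
    intro i
    have := (h (Pi.single i 1)).1
    rw [hA, sP_monMat, Fintype.sum_eq_single i fun l hl => by simp [hl]] at this
    rw [show sP (Pi.single i 1) = 1 by fin_cases i <;> simp [sP]] at this
    simpa using this
  have hprod : ∏ i, A (σ i) i = c := by
    have := (h 1).2
    rw [hA, pP_monMat] at this
    simpa [pP] using this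
  refine ⟨σ, _, hA, hd, hprod, ?_⟩
  rw [hA, monMat_det, hprod] at hdet
  rcases Int.units_eq_one_or (Equiv.Perm.sign σ) with hs | hs <;> rw [hs] at hdet ⊢
  · simpa using hdet
  · push_cast at hdet ⊢
    linear_combination -hdet

/-- A general Hesse cubic has 54 automorphisms of determinant one. -/
theorem card_aut (hk0 : k ≠ 0) (hk : k ^ 3 ≠ 1)
    (hkT : k ∉ exceptionalSet (Polynomial.nthRootsFinset 3 (1 : ℂ))) :
    Nat.card {A : Matrix (Fin 3) (Fin 3) ℂ // A.det = 1 ∧
      ∃ c : ℂ, aeval (fun i : Fin 3 => ∑ j : Fin 3, C (A i j) * X j) (HesseCubic.form k) =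
        C c * HesseCubic.form k} = 54 := by
  classical
  set μ := Polynomial.nthRootsFinset 3 (1 : ℂ)
  let sg : Equiv.Perm (Fin 3) → ℂ := fun σ => ((Equiv.Perm.sign σ : ℤ) : ℂ)
  have hsg : ∀ σ, sg σ ^ 2 = 1 := fun σ => by
    rcases Int.units_eq_one_or (Equiv.Perm.sign σ) with hs | hs <;> simp [sg, hs]
  let d : Equiv.Perm (Fin 3) × μ × μ → Fin 3 → ℂ := fun t =>
    ![sg t.1 * (t.2.1 : ℂ), sg t.1 * (t.2.2 : ℂ), sg t.1 * ((t.2.1 : ℂ) * (t.2.2 : ℂ)) ^ 2]
  have hz : ∀ z : μ, (z : ℂ) ^ 3 = 1 := fun z => mem_mu.1 z.2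
  have hd3 : ∀ t i, d t i ^ 3 = sg t.1 := by
    intro t i
    have h1 := hz t.2.1
    have h2 := hz t.2.2
    have hs := hsg t.1
    fin_cases i <;> simp [d] <;> grind
  have hdp : ∀ t, ∏ i, d t i = sg t.1 := by
    intro t
    have h1 := hz t.2.1
    have h2 := hz t.2.2
    have hs := hsg t.1
    simp [d, Fin.prod_univ_three]
    grind
  have hmem : ∀ t, (monMat t.1 (d t)).det = 1 ∧ ∃ c : ℂ,
      aeval (fun i : Fin 3 => ∑ j : Fin 3, C (monMat t.1 (d t) i j) * X j) (HesseCubic.form k) =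
        C c * HesseCubic.form k := by
    intro t
    refine ⟨by rw [monMat_det, hdp]; exact (sq (sg t.1)).symm.trans (hsg _), sg t.1, ?_⟩
    rw [subst_eq_iff]
    intro x
    rw [eval_hesse, eval_hesse]
    have e1 := pP_monMat t.1 (d t) x
    have e2 := sP_monMat t.1 (d t) x
    rw [hdp] at e1
    rw [Fin.sum_univ_three] at e2
    simp only [hd3] at e2
    simp only [sP, pP] at e1 e2
    linear_combination e2 - 3 * k * e1
  let g : Equiv.Perm (Fin 3) × μ × μ → _ := fun t =>
    (⟨monMat t.1 (d t), hmem t⟩ : {A : Matrix (Fin 3) (Fin 3) ℂ // A.det = 1 ∧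
      ∃ c : ℂ, aeval (fun i : Fin 3 => ∑ j : Fin 3, C (A i j) * X j) (HesseCubic.form k) =
        C c * HesseCubic.form k})
  have hne : ∀ t i, d t i ≠ 0 := fun t i h0 => by
    have := hd3 t i
    rw [h0, zero_pow (by norm_num)] at this
    have h2 := hsg t.1
    rw [← this] at h2
    norm_num at h2
  have hg : Function.Bijective g := by
    constructor
    · intro t t' e
      have e' : monMat t.1 (d t) = monMat t'.1 (d t') := congrArg Subtype.val e
      have hσ : t.1 = t'.1 := by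
        ext1 j
        have := congrFun (congrFun e' (t.1 j)) j
        rw [monMat_apply, monMat_apply, if_pos rfl] at this
        by_contra hj
        rw [if_neg hj] at this
        exact hne t j this
      have hdd : ∀ j, d t j = d t' j := by
        intro j
        have := congrFun (congrFun e' (t.1 j)) j
        rw [monMat_apply, monMat_apply, if_pos rfl, hσ, if_pos rfl] at this
        exact this
      have hs0 : sg t.1 ≠ 0 := fun h0 => by
        have := hsg t.1; rw [h0] at this; norm_num at this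
      have a0 := hdd 0
      have a1 := hdd 1
      simp [d, hσ] at a0 a1
      rw [hσ] at hs0
      refine Prod.ext hσ (Prod.ext (Subtype.ext ?_) (Subtype.ext ?_))
      · exact congrArg Subtype.val (a0.resolve_right hs0)
      · exact congrArg Subtype.val (a1.resolve_right hs0)
    · rintro ⟨A, hdet, c, hc⟩
      obtain ⟨-, h⟩ := aut_pencil hk0 hk hkT hdet ((subst_eq_iff _ _ A c).1 hc)
      obtain ⟨σ, e, rfl, he3, hep, hcs⟩ := exists_monMat hdet h
      have hcs' : sg σ = c := hcs.symm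
      have hs := hsg σ
      have e0 := he3 0
      have e1 := he3 1
      have e2 := he3 2
      rw [Fin.prod_univ_three] at hep
      refine ⟨⟨σ, ⟨sg σ * e 0, mem_mu.2 (by grind)⟩, ⟨sg σ * e 1, mem_mu.2 (by grind)⟩⟩,
        Subtype.ext ?_⟩
      show monMat σ _ = monMat σ e
      congr 1
      funext i
      fin_cases i <;> simp [d] <;> grind
  rw [← Nat.card_eq_of_bijective g hg]
  rw [Nat.card_prod, Nat.card_prod, Nat.card_eq_fintype_card, Nat.card_eq_fintype_card,
    Fintype.card_perm, Fintype.card_coe, Fintype.card_fin]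
  simp only [μ]
  rw [(Complex.isPrimitiveRoot_exp 3 (by norm_num)).card_nthRootsFinset]
  rfl

end Groth.Agent.H83.Cubic
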