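import Mathlib.RingTheory.MvPolynomial.Homogeneous
import Mathlib.Algebra.MvPolynomial.PDeriv
import Mathlib.Algebra.MvPolynomial.Funext
import Mathlib.RingTheory.Nullstellensatz
import Mathlib.RingTheory.Valuation.LocalSubring
import Mathlib.LinearAlgebra.Matrix.Determinant.Basic
import Mathlib.LinearAlgebra.Matrix.ToLinearEquiv
import Mathlib.FieldTheory.IsAlgClosed.AlgebraicClosure
import Mathlib.RingTheory.Localization.FractionRing
import Mathlib.RingTheory.MvPolynomial.Localization
import Mathlib.Tactic.LinearCombination

/-!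
# Hypersurfaces of degree `d ≤ 2n - 3` contain lines

* `dominant`: forms containing a line are dense;
* `closed`: they form a closed set;
* `exists_line`.
-/

set_option autoImplicit false
set_option linter.unusedSectionVars false

universe u v w

open MvPolynomial

namespace Groth.Agent.H83.LineExist

attribute [local instance] MvPolynomial.algebraMvPolynomial

variable {k : Type u} [Field k] {σ : Type v}

/-- Chain rule for the evaluation of a polynomial at polynomials in one variable. -/
theorem derivative_aeval [Fintype σ] {R : Type w} [CommRing R] [Algebra k R] (p : σ → Polynomial R)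
    (g : MvPolynomial σ k) : Polynomial.derivative (aeval p g) =
      ∑ e, Polynomial.derivative (p e) * aeval p (pderiv e g) := by
  classical
  induction g using MvPolynomial.induction_on with
  | C r =>
    simp [IsScalarTower.algebraMap_apply k R (Polynomial R), Polynomial.algebraMap_eq]
  | add p' q hp hq => simp only [map_add, mul_add, Finset.sum_add_distrib, hp, hq]
  | mul_X g i hg =>
    have : ∀ e, Polynomial.derivative (p e) * aeval p (pderiv e (g * X i)) =
        Polynomial.derivative (p e) * aeval p (pderiv e g) * p i +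
          if e = i then aeval p g * Polynomial.derivative (p i) else 0 := by
      intro e
      rw [pderiv_mul, pderiv_X, Pi.single_apply]
      split_ifs with h h' h'
      · subst h; simp; ring
      · exact absurd h.symm h'
      · exact absurd h'.symm h
      · simp; ring
    rw [map_mul, aeval_X, Polynomial.derivative_mul, hg, Finset.sum_mul,
      Finset.sum_congr rfl (fun e _ => this e), Finset.sum_add_distrib, Finset.sum_ite_eq' _ i,
      if_pos (Finset.mem_univ i)]

/-- Evaluation of a polynomial at polynomials in one variable. -/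
theorem eval_aeval {R : Type w} [CommRing R] [Algebra k R] (p : σ → Polynomial R) (r : R)
    (g : MvPolynomial σ k) : (aeval p g).eval r = aeval (fun e => (p e).eval r) g := by
  induction g using MvPolynomial.induction_on with
  | C a => simp [IsScalarTower.algebraMap_apply k R (Polynomial R), Polynomial.algebraMap_eq]
  | add p' q hp hq => simp only [map_add, Polynomial.eval_add, hp, hq]
  | mul_X g i hg => simp only [map_mul, aeval_X, Polynomial.eval_mul, hg]

/-- Evaluation of a polynomial at polynomials in one variable over the field. -/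
theorem eval_aeval_poly (p : σ → Polynomial k) (t : k) (g : MvPolynomial σ k) :
    (aeval p g).eval t = eval (fun e => (p e).eval t) g := by
  rw [eval_aeval, aeval_eq_eval]

theorem totalDegree_pderiv_lt (e : σ) (g : MvPolynomial σ k) (h : pderiv e g ≠ 0) :
    (pderiv e g).totalDegree < g.totalDegree := by
  classical
  have key : ∀ m ∈ (pderiv e g).support, (m.sum fun _ x => x) < g.totalDegree := by
    intro m hm
    rw [mem_support_iff, coeff_pderiv] at hm
    have h1 := le_totalDegree (p := g) (mem_support_iff.2 (left_ne_zero_of_mul hm))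
    rw [Finsupp.sum_add_index' (fun _ => rfl) (fun _ _ _ => rfl), Finsupp.sum_single_index rfl] at h1
    omega
  obtain ⟨m, hm⟩ := Finset.nonempty_of_ne_empty (fun h0 => h (support_eq_empty.1 h0))
  rw [totalDegree, Finset.sup_lt_iff (lt_of_le_of_lt (Nat.zero_le _) (key m hm))]
  exact key

variable {n d : ℕ}

/-- The exponents of degree `d`. -/
abbrev Idx (n d : ℕ) := {e : Fin (n + 1) →₀ ℕ // e.degree = d}

noncomputable instance : Fintype (Idx n d) :=
  Fintype.ofInjective (fun e (i : Fin (n + 1)) =>
    (⟨e.1 i, Nat.lt_succ_of_le ((Finsupp.le_degree i e.1).trans e.2.le)⟩ : Fin (d + 1)))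
    fun e e' h => Subtype.ext (Finsupp.ext fun i => congrArg Fin.val (congrFun h i))

/-- The form with given coefficients. -/
noncomputable def form {R : Type w} [CommSemiring R] (c : Idx n d → R) :
    MvPolynomial (Fin (n + 1)) R := ∑ e, monomial e.1 (c e)

theorem coeff_form {R : Type w} [CommSemiring R] (c : Idx n d → R) (e : Idx n d) :
    coeff e.1 (form c) = c e := by
  classical
  rw [form, coeff_sum, Finset.sum_eq_single e]
  · simp
  · intro b _ hb; rw [coeff_monomial, if_neg fun h => hb (Subtype.ext h)]
  · simp

theorem form_coeff {R : Type w} [CommSemiring R] {f : MvPolynomial (Fin (n + 1)) R}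
    (hf : f.IsHomogeneous d) : form (fun e : Idx n d => coeff e.1 f) = f := by
  classical
  ext m
  by_cases hm : m.degree = d
  · exact coeff_form _ ⟨m, hm⟩
  · rw [hf.coeff_eq_zero hm, form, coeff_sum]
    exact Finset.sum_eq_zero fun e _ => by
      rw [coeff_monomial, if_neg fun h : e.1 = m => hm (h ▸ e.2)]

theorem form_isHomogeneous {R : Type w} [CommSemiring R] (c : Idx n d → R) :
    (form c).IsHomogeneous d :=
  IsHomogeneous.sum _ _ _ fun e _ => isHomogeneous_monomial _ e.2

/-- The restriction of a form to the line through two vectors. -/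
noncomputable def binary {R : Type w} [CommRing R] (f : MvPolynomial (Fin (n + 1)) R)
    (P Q : Fin (n + 1) → R) : MvPolynomial (Fin 2) R :=
  aeval (fun i => C (P i) * X 0 + C (Q i) * X 1) f

theorem eval_binary {R : Type w} [CommRing R] (f : MvPolynomial (Fin (n + 1)) R)
    (P Q : Fin (n + 1) → R) (x : Fin 2 → R) :
    eval x (binary f P Q) = eval (fun i => P i * x 0 + Q i * x 1) f := by
  rw [binary]
  induction f using MvPolynomial.induction_on with
  | C a => simp
  | add p q hp hq => simp only [map_add, hp, hq]
  | mul_X p i hp => simp [map_mul, hp]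

theorem map_binary {R : Type w} {S : Type*} [CommRing R] [CommRing S] (φ : R →+* S)
    (f : MvPolynomial (Fin (n + 1)) R) (P Q : Fin (n + 1) → R) :
    MvPolynomial.map φ (binary f P Q) =
      binary (MvPolynomial.map φ f) (fun i => φ (P i)) (fun i => φ (Q i)) := by
  simp only [binary]
  induction f using MvPolynomial.induction_on with
  | C a => simp
  | add p q hp hq => simp only [map_add, hp, hq]
  | mul_X p i hp => simp [map_mul, hp]

theorem map_form {R : Type w} {S : Type*} [CommRing R] [CommRing S] (φ : R →+* S)
    (c : Idx n d → R) : MvPolynomial.map φ (form c) = form (fun e => φ (c e)) := by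
  simp [form, map_sum, map_monomial]

/-- Change of basis of the line. -/
theorem binary_change {R : Type w} [CommRing R] (f : MvPolynomial (Fin (n + 1)) R)
    (P Q : Fin (n + 1) → R) (α β γ δ : R) (h : binary f P Q = 0) :
    binary f (fun i => α * P i + β * Q i) (fun i => γ * P i + δ * Q i) = 0 := by
  have key : (aeval ![C α * X 0 + C γ * X 1, C β * X 0 + C δ * X 1] :
      MvPolynomial (Fin 2) R →ₐ[R] MvPolynomial (Fin 2) R).comp
      (aeval fun i => C (P i) * X 0 + C (Q i) * X 1) =
      aeval (fun i => C (α * P i + β * Q i) * X 0 + C (γ * P i + δ * Q i) * X 1) :=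
    MvPolynomial.algHom_ext fun i => by simp; ring
  rw [binary, ← key, AlgHom.comp_apply]
  rw [binary] at h
  rw [h, map_zero]

/-- The translation moving the standard line to the line with parameters `a`, `b`. -/
noncomputable def shift (a b : Fin (n + 1) → k) :
    MvPolynomial (Fin (n + 1)) k →ₐ[k] MvPolynomial (Fin (n + 1)) k :=
  aeval fun i => X i - C (a i) * X 0 - C (b i) * X 1

/-- The standard line vectors. -/
def e0 : Fin (n + 1) → k := Pi.single 0 1

/-- The standard line vectors. -/
def e1 : Fin (n + 1) → k := Pi.single 1 1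

/-- Parameters of chart lines. -/
def IsParam (a : Fin (n + 1) → k) : Prop := a 0 = 0 ∧ a 1 = 0

theorem binary_shift (hn : 2 ≤ n) {a b a' b' : Fin (n + 1) → k} (ha' : IsParam a') (hb' : IsParam b')
    (f : MvPolynomial (Fin (n + 1)) k) :
    binary (shift a b f) (e0 + a') (e1 + b') = binary f (e0 + a' - a) (e1 + b' - b) := by
  have h01 : (0 : Fin (n + 1)) ≠ 1 := by
    intro h; have := congrArg Fin.val h; simp [Nat.mod_eq_of_lt (show 1 < n + 1 by omega)] at this
  have h1 : ((e0 : Fin (n + 1) → k) + a') 0 = 1 := by simp [e0, ha'.1]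
  have h2 : ((e1 : Fin (n + 1) → k) + b') 0 = 0 := by simp [e1, hb'.1, h01]
  have h3 : ((e0 : Fin (n + 1) → k) + a') 1 = 0 := by simp [e0, ha'.2, h01.symm]
  have h4 : ((e1 : Fin (n + 1) → k) + b') 1 = 1 := by simp [e1, hb'.2]
  rw [binary, binary, shift, ← AlgHom.comp_apply]
  refine DFunLike.congr_fun (MvPolynomial.algHom_ext fun j => ?_) f
  simp only [AlgHom.comp_apply, aeval_X, map_sub, map_mul, aeval_C, MvPolynomial.algebraMap_eq,
    h1, h2, h3, h4, map_one, map_zero, Pi.sub_apply]
  ring

/-- Forms containing a chart line. -/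
def HasChartLine (c : Idx n d → k) : Prop :=
  ∃ a b, IsParam a ∧ IsParam b ∧ binary (form c) (e0 + a) (e1 + b) = 0

theorem shift_isHomogeneous (a b : Fin (n + 1) → k) {f : MvPolynomial (Fin (n + 1)) k}
    (hf : f.IsHomogeneous d) : (shift a b f).IsHomogeneous d := by
  have := hf.aeval (fun i => X i - C (a i) * X 0 - C (b i) * X 1) (n := 1) fun i =>
    ((isHomogeneous_X k i).sub ((isHomogeneous_X k 0).C_mul (a i))).sub
      ((isHomogeneous_X k 1).C_mul (b i))
  simpa [shift] using this

theorem IsParam.sub {a a' : Fin (n + 1) → k} (ha : IsParam a) (ha' : IsParam a') :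
    IsParam (a - a') := ⟨by simp [ha.1, ha'.1], by simp [ha.2, ha'.2]⟩

/-- The coefficient translation. -/
noncomputable def shiftC (a b : Fin (n + 1) → k) : (Idx n d → k) →ₗ[k] (Idx n d → k) where
  toFun c e := coeff e.1 (shift a b (form c))
  map_add' c c' := by
    funext e
    simp [form, Finset.sum_add_distrib, map_add, map_sum, ← coeff_add]
  map_smul' r c := by
    funext e
    have : form (r • c) = r • form c := by simp [form, Finset.smul_sum, smul_monomial]
    rw [this, map_smul, coeff_smul]
    rfl

theorem form_shiftC (a b : Fin (n + 1) → k) (c : Idx n d → k) :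
    form (shiftC a b c) = shift a b (form c) :=
  form_coeff (shift_isHomogeneous a b (form_isHomogeneous c))

theorem hasChartLine_shiftC (hn : 2 ≤ n) {a b : Fin (n + 1) → k} (ha : IsParam a) (hb : IsParam b)
    {c : Idx n d → k} (h : HasChartLine c) : HasChartLine (shiftC a b c) := by
  obtain ⟨a', b', ha', hb', h⟩ := h
  refine ⟨a + a', b + b', ⟨by simp [ha.1, ha'.1], by simp [ha.2, ha'.2]⟩,
    ⟨by simp [hb.1, hb'.1], by simp [hb.2, hb'.2]⟩, ?_⟩
  rw [form_shiftC, binary_shift hn ⟨by simp [ha.1, ha'.1], by simp [ha.2, ha'.2]⟩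
    ⟨by simp [hb.1, hb'.1], by simp [hb.2, hb'.2]⟩, ← h]
  congr 1 <;> abel

theorem shift_shift (hn : 2 ≤ n) {a b a' b' : Fin (n + 1) → k} (ha' : IsParam a') (hb' : IsParam b')
    (f : MvPolynomial (Fin (n + 1)) k) : shift a' b' (shift a b f) = shift (a + a') (b + b') f := by
  have h01 : (0 : Fin (n + 1)) ≠ 1 := by
    intro h; have := congrArg Fin.val h; simp [Nat.mod_eq_of_lt (show 1 < n + 1 by omega)] at this
  rw [shift, shift, shift, ← AlgHom.comp_apply]
  refine DFunLike.congr_fun (MvPolynomial.algHom_ext fun j => ?_) f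
  simp only [AlgHom.comp_apply, aeval_X, map_sub, map_mul, aeval_C, MvPolynomial.algebraMap_eq,
    ha'.1, ha'.2, hb'.1, hb'.2, map_zero, zero_mul, sub_zero, Pi.add_apply, map_add]
  ring

theorem shift_zero (f : MvPolynomial (Fin (n + 1)) k) : shift 0 0 f = f := by
  simp [shift, MvPolynomial.aeval_X_left_apply]

theorem binary_e_eq_zero_of_high {e : Idx n d} {i : Fin (n + 1)} (hi : 2 ≤ (i : ℕ)) (he : e.1 i ≠ 0) :
    binary (monomial e.1 (1 : k)) e0 e1 = 0 := by
  rw [binary, aeval_monomial, map_one, one_mul]
  refine Finset.prod_eq_zero (Finsupp.mem_support_iff.2 he) ?_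
  have h0 : i ≠ 0 := fun h => by rw [h] at hi; simp at hi
  have h1 : i ≠ 1 := fun h => by
    rw [h, Fin.val_one'] at hi
    have := Nat.mod_le 1 (n + 1); omega
  simp [e0, e1, h0, h1, zero_pow he]

/-- The first order term of the substitution `X i ↦ X i + t * xl`. -/
theorem coeff_one_line (F : MvPolynomial (Fin (n + 1)) k) (i : Fin (n + 1))
    (xl : MvPolynomial (Fin (n + 1)) k) :
    (aeval (fun j => Polynomial.C (X j) +
      Polynomial.C (C ((Pi.single i 1 : Fin (n + 1) → k) j) * xl) * Polynomial.X) F).coeff 1 =
      xl * pderiv i F := by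
  classical
  have h2 : ∀ P : Polynomial (MvPolynomial (Fin (n + 1)) k),
      (Polynomial.derivative P).eval 0 = P.coeff 1 := fun P => by
    rw [← Polynomial.coeff_zero_eq_eval_zero, Polynomial.coeff_derivative]; simp
  rw [← h2, derivative_aeval, Polynomial.eval_finsetSum, Finset.sum_eq_single i]
  · rw [Polynomial.eval_mul, eval_aeval]
    simp [aeval_X_left_apply]
  · intro j _ hj
    simp [hj]
  · simp

/-- The first order term of a polynomial, one coefficient at a time. -/
theorem eval_derivative_repack (P : Polynomial (MvPolynomial (Fin (n + 1)) k))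
    (m : Fin (n + 1) →₀ ℕ) :
    (Polynomial.derivative (∑ j ∈ Finset.range (P.natDegree + 1),
      Polynomial.C (coeff m (P.coeff j)) * Polynomial.X ^ j)).eval 0 = coeff m (P.coeff 1) := by
  classical
  rw [← Polynomial.coeff_zero_eq_eval_zero, Polynomial.coeff_derivative]
  simp only [Polynomial.finsetSum_coeff, Polynomial.coeff_C_mul, Polynomial.coeff_X_pow]
  simp only [Nat.cast_zero, zero_add, mul_one, mul_ite, mul_zero, Finset.sum_ite_eq,
    Finset.mem_range]
  split_ifs with h1
  · rfl
  · rw [Polynomial.coeff_eq_zero_of_natDegree_lt (by omega), coeff_zero]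

/-- Directions inside the space of forms containing the standard line. -/
theorem deriv_inside [Infinite k]
    (g : MvPolynomial (Idx n d) k) (hg : ∀ c, HasChartLine c → eval c g = 0)
    {c' : Idx n d → k} (hc' : binary (form c') (e0 : Fin (n + 1) → k) e1 = 0)
    (w : Idx n d → k) (hw : binary (form w) (e0 : Fin (n + 1) → k) e1 = 0) :
    ∑ e, w e * eval c' (pderiv e g) = 0 := by
    classical
    have hP : IsParam (0 : Fin (n + 1) → k) := ⟨rfl, rfl⟩
    have hchart : ∀ c' : Idx n d → k, binary (form c') (e0 : Fin (n + 1) → k) e1 = 0 →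
        HasChartLine c' := fun c' h => ⟨0, 0, hP, hP, by rwa [add_zero, add_zero]⟩
    set γ : Idx n d → Polynomial k := fun e => Polynomial.C (c' e) + Polynomial.C (w e) * Polynomial.X
    have hzero : aeval γ g = 0 := Polynomial.funext fun t => by
      rw [Polynomial.eval_zero, eval_aeval_poly]
      refine hg _ (hchart _ ?_)
      have : form (fun e => (γ e).eval t) =
          form c' + C t * form w := by
        simp [γ, form, Finset.sum_add_distrib, Finset.mul_sum, C_mul_monomial, map_add, mul_comm t]
      rw [this, binary, map_add, map_mul]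
      simp only [binary] at hc' hw
      rw [hc', hw]; simp
    have := congrArg (fun P => Polynomial.eval 0 (Polynomial.derivative P)) hzero
    simp only [derivative_aeval, Polynomial.eval_finsetSum, map_zero, Polynomial.eval_zero] at this
    rw [← this]
    refine Finset.sum_congr rfl fun e _ => ?_
    rw [Polynomial.eval_mul, eval_aeval_poly]
    simp [γ]

/-- Directions from moving the line. -/
theorem deriv_move (hn : 2 ≤ n) [Infinite k]
    (g : MvPolynomial (Idx n d) k) (hg : ∀ c, HasChartLine c → eval c g = 0)
    {c' : Idx n d → k} (hc' : binary (form c') (e0 : Fin (n + 1) → k) e1 = 0)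
    (i : Fin (n + 1)) (s : Fin 2) (hi : 2 ≤ (i : ℕ)) :
    ∑ e : Idx n d, coeff e.1 ((![X 0, X 1] s : MvPolynomial (Fin (n + 1)) k) *
      pderiv i (form c')) * eval c' (pderiv e g) = 0 := by
    classical
    have hP : IsParam (0 : Fin (n + 1) → k) := ⟨rfl, rfl⟩
    have hchart : ∀ c' : Idx n d → k, binary (form c') (e0 : Fin (n + 1) → k) e1 = 0 →
        HasChartLine c' := fun c' h => ⟨0, 0, hP, hP, by rwa [add_zero, add_zero]⟩
    set xl : MvPolynomial (Fin (n + 1)) k := ![X 0, X 1] s
    set u : Fin (n + 1) → k := Pi.single i 1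
    have hi0 : i ≠ 0 := fun h => by rw [h] at hi; simp at hi
    have hi1 : i ≠ 1 := fun h => by
      rw [h, Fin.val_one'] at hi
      have := Nat.mod_le 1 (n + 1); omega
    have hu : IsParam u := ⟨by simp [u, hi0.symm], by simp [u, hi1.symm]⟩
    let p : Fin (n + 1) → Polynomial (MvPolynomial (Fin (n + 1)) k) := fun j =>
      Polynomial.C (X j) + Polynomial.C (C (u j) * xl) * Polynomial.X
    set P := aeval p (form c')
    let γ : Idx n d → Polynomial k := fun e =>
      ∑ j ∈ Finset.range (P.natDegree + 1), Polynomial.C (coeff e.1 (P.coeff j)) * Polynomial.X ^ j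
    have hev : ∀ t : k, (fun e => (γ e).eval t) = fun e : Idx n d =>
        coeff e.1 (shift ((-t) • (if s = 0 then u else 0)) ((-t) • (if s = 0 then 0 else u))
          (form c')) := by
      intro t
      funext e
      have h1 : P.eval (C t) = shift ((-t) • (if s = 0 then u else 0))
          ((-t) • (if s = 0 then 0 else u)) (form c') := by
        simp only [P, shift]
        rw [eval_aeval]
        refine congrArg (fun F => aeval F (form c')) (funext fun j => ?_)
        fin_cases s <;> simp [p, xl] <;> ring
      conv_rhs => rw [← h1, Polynomial.eval_eq_sum_range, coeff_sum]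
      simp only [γ, Polynomial.eval_finsetSum, Polynomial.eval_mul, Polynomial.eval_C,
        Polynomial.eval_pow, Polynomial.eval_X, ← map_pow, mul_comm (P.coeff _), coeff_C_mul,
        mul_comm _ (t ^ _)]
    have hzero : aeval γ g = 0 := Polynomial.funext fun t => by
      rw [Polynomial.eval_zero, eval_aeval_poly]
      refine hg _ ?_
      rw [hev]
      refine hasChartLine_shiftC hn ?_ ?_ (hchart _ hc')
      all_goals split_ifs <;> constructor <;> simp [hu.1, hu.2]
    have := congrArg (fun P => Polynomial.eval 0 (Polynomial.derivative P)) hzero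
    simp only [derivative_aeval, Polynomial.eval_finsetSum, map_zero, Polynomial.eval_zero] at this
    rw [← this]
    refine Finset.sum_congr rfl fun e _ => ?_
    rw [Polynomial.eval_mul]
    congr 1
    · rw [← coeff_one_line (form c') i xl]
      exact (eval_derivative_repack (k := k) P e.1).symm
    · rw [eval_aeval_poly, hev 0]
      simp [shift_zero, coeff_form]

/-- The key step: a polynomial vanishing on forms with a chart line has all derivatives vanishing
at forms containing the standard line. -/
theorem deriv_eq_zero (hn : 2 ≤ n) (hd : 1 ≤ d) (hdn : d + 3 ≤ 2 * n) [Infinite k]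
    (g : MvPolynomial (Idx n d) k) (hg : ∀ c, HasChartLine c → eval c g = 0)
    {c : Idx n d → k} (hc : binary (form c) (e0 : Fin (n + 1) → k) e1 = 0) (v : Idx n d → k) :
    ∑ e, v e * eval c (pderiv e g) = 0 := by
  classical
  -- tangent vectors at the forms `c' ` of the standard line
  have hP : IsParam (0 : Fin (n + 1) → k) := ⟨rfl, rfl⟩
  have hchart : ∀ c' : Idx n d → k, binary (form c') (e0 : Fin (n + 1) → k) e1 = 0 →
      HasChartLine c' := fun c' h => ⟨0, 0, hP, hP, by rwa [add_zero, add_zero]⟩
  have hW : ∀ c' : Idx n d → k, binary (form c') (e0 : Fin (n + 1) → k) e1 = 0 →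
      ∀ w : Idx n d → k, binary (form w) (e0 : Fin (n + 1) → k) e1 = 0 →
      ∑ e, w e * eval c' (pderiv e g) = 0 := fun c' hc' w hw => deriv_inside g hg hc' w hw
  have hT : ∀ c' : Idx n d → k, binary (form c') (e0 : Fin (n + 1) → k) e1 = 0 →
      ∀ (i : Fin (n + 1)) (s : Fin 2), 2 ≤ (i : ℕ) →
      ∑ e : Idx n d, coeff e.1 ((![X 0, X 1] s : MvPolynomial (Fin (n + 1)) k) *
        pderiv i (form c')) * eval c' (pderiv e g) = 0 :=
    fun c' hc' i s hi => deriv_move hn g hg hc' i s hi
  -- a good form
  let ex : Fin (d + 1) → ℕ := fun j => min (2 * ((j : ℕ) / 2)) (d - 1)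
  have hex : ∀ j : Fin (d + 1), ex j ≤ (j : ℕ) ∧ (j : ℕ) ≤ ex j + 1 ∧ (j : ℕ) / 2 + 2 < n + 1 :=
    fun j => by have := j.2; simp only [ex]; omega
  let idx : Fin (d + 1) → Fin (n + 1) := fun j => ⟨(j : ℕ) / 2 + 2, (hex j).2.2⟩
  let sel : Fin (d + 1) → Fin 2 := fun j => ⟨(j : ℕ) - ex j, by have := hex j; omega⟩
  -- exponents on the line
  let bin : Fin (d + 1) → Idx n d := fun j =>
    ⟨Finsupp.single 0 (d - (j : ℕ)) + Finsupp.single 1 (j : ℕ), by
      rw [map_add, Finsupp.degree_single, Finsupp.degree_single]; omega⟩
  let good : MvPolynomial (Fin (n + 1)) k :=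
    ∑ i ∈ Finset.univ.image idx, monomial
      (Finsupp.single 0 (d - 1 - min (2 * ((i : ℕ) - 2)) (d - 1)) +
        Finsupp.single 1 (min (2 * ((i : ℕ) - 2)) (d - 1)) + Finsupp.single i 1) 1
  have hgood : good.IsHomogeneous d := IsHomogeneous.sum _ _ _ fun i _ => isHomogeneous_monomial _ (by
    rw [map_add, map_add, Finsupp.degree_single, Finsupp.degree_single, Finsupp.degree_single]
    omega)
  set c₀ : Idx n d → k := fun e => coeff e.1 good
  have hc₀f : form c₀ = good := form_coeff hgood
  have hone : ((1 : Fin (n + 1)) : ℕ) = 1 := by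
    rw [Fin.val_one']; exact Nat.mod_eq_of_lt (by omega)
  have hne : ∀ i : Fin (n + 1), 2 ≤ (i : ℕ) → i ≠ 0 ∧ i ≠ 1 := fun i hi =>
    ⟨fun h => by rw [h] at hi; simp at hi, fun h => by rw [h, hone] at hi; omega⟩
  have hidx : ∀ i ∈ Finset.univ.image idx, 2 ≤ (i : ℕ) := by
    intro i hi
    obtain ⟨j, -, rfl⟩ := Finset.mem_image.1 hi
    show 2 ≤ (j : ℕ) / 2 + 2
    omega
  have hc₀ : binary (form c₀) (e0 : Fin (n + 1) → k) e1 = 0 := by
    rw [hc₀f, binary]
    simp only [good, map_sum]
    refine Finset.sum_eq_zero fun i hi => binary_e_eq_zero_of_high (d := d) (e := ⟨_, ?_⟩) (hidx i hi) ?_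
    · rw [map_add, map_add, Finsupp.degree_single, Finsupp.degree_single, Finsupp.degree_single]
      omega
    · simp [(hne i (hidx i hi)).1, (hne i (hidx i hi)).2]
  -- along the segment from the good form to `c`
  let q : Idx n d → Polynomial k := fun e =>
    Polynomial.C (c₀ e) + Polynomial.C (c e - c₀ e) * Polynomial.X
  let lam : Idx n d → Polynomial k := fun e => aeval q (pderiv e g)
  have hq : ∀ t : k, binary (form fun e => (q e).eval t) (e0 : Fin (n + 1) → k) e1 = 0 := by
    intro t
    have : form (fun e => (q e).eval t) = C (1 - t) * form c₀ + C t * form c := by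
      simp only [q, form, Finset.mul_sum, C_mul_monomial, ← Finset.sum_add_distrib, ← map_add,
        Polynomial.eval_add, Polynomial.eval_mul, Polynomial.eval_C, Polynomial.eval_X]
      refine Finset.sum_congr rfl fun e _ => ?_
      ring_nf
    simp only [binary] at hc hc₀ ⊢
    rw [this, map_add, map_mul, map_mul, hc, hc₀]; simp
  have hlam : ∀ (t : k) (e : Idx n d), (lam e).eval t =
      eval (fun e => (q e).eval t) (pderiv e g) := fun t e => eval_aeval_poly q t _
  have hhigh : ∀ e : Idx n d, (∀ j, e ≠ bin j) → lam e = 0 := by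
    intro e he
    obtain ⟨i, hi, hei⟩ : ∃ i : Fin (n + 1), 2 ≤ (i : ℕ) ∧ e.1 i ≠ 0 := by
      by_contra hcon
      push Not at hcon
      have hsum : e.1 0 + e.1 1 = d := by
        have hdeg := e.2
        rw [Finsupp.degree_eq_sum, ← Finset.sum_subset (Finset.subset_univ {0, 1})] at hdeg
        · rwa [Finset.sum_pair (fun h => by have := congrArg Fin.val h; rw [hone] at this; simp at this)] at hdeg
        · intro i _ hi
          simp only [Finset.mem_insert, Finset.mem_singleton, not_or] at hi
          refine hcon i ?_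
          by_contra hlt
          have : (i : ℕ) = 0 ∨ (i : ℕ) = 1 := by omega
          rcases this with h | h
          · exact hi.1 (Fin.ext (by simpa using h))
          · exact hi.2 (Fin.ext (by rw [hone]; exact h))
      refine he ⟨e.1 1, by omega⟩ (Subtype.ext (Finsupp.ext fun i => ?_))
      by_cases h1 : i = 1
      · subst h1
        have : (1 : Fin (n + 1)) ≠ 0 := fun h => by
          have := congrArg Fin.val h; rw [hone] at this; simp at this
        simp [bin, this]
      · by_cases h0 : i = 0
        · subst h0; simp [bin, h1]; omega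
        · simp only [bin, Finsupp.add_apply, Finsupp.single_apply, if_neg (Ne.symm h0),
            if_neg (Ne.symm h1)]
          refine hcon i ?_
          by_contra hlt
          have : (i : ℕ) = 0 ∨ (i : ℕ) = 1 := by omega
          rcases this with h | h
          · exact h0 (Fin.ext (by simpa using h))
          · exact h1 (Fin.ext (by rw [hone]; exact h))
    refine Polynomial.funext fun t => ?_
    rw [hlam, Polynomial.eval_zero]
    have hw := hW _ (hq t) (Pi.single e 1) (by
      have : form (Pi.single e (1 : k)) = monomial e.1 1 := by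
        rw [form, Finset.sum_eq_single e]
        · simp
        · intro b _ hb; simp [hb]
        · simp
      rw [this]; exact binary_e_eq_zero_of_high hi hei)
    rw [Finset.sum_eq_single e] at hw
    · simpa using hw
    · intro b _ hb; simp [hb]
    · simp
  -- the tangent matrix
  let N : Matrix (Fin (d + 1)) (Fin (d + 1)) (Polynomial k) := Matrix.of fun j r =>
    Polynomial.C (coeff (bin r).1 ((![X 0, X 1] (sel j) : MvPolynomial (Fin (n + 1)) k) *
      pderiv (idx j) (form c₀))) +
    Polynomial.C (coeff (bin r).1 ((![X 0, X 1] (sel j) : MvPolynomial (Fin (n + 1)) k) *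
      pderiv (idx j) (form (c - c₀)))) * Polynomial.X
  have hbin : Function.Injective bin := fun j j' h => by
    have h10 : (0 : Fin (n + 1)) ≠ 1 := fun h => by
      have := congrArg Fin.val h; rw [hone] at this; simp at this
    have := DFunLike.congr_fun (congrArg Subtype.val h) 1
    simp [bin, h10] at this
    exact Fin.ext this
  have hN0 : N.map (Polynomial.eval 0) = 1 := by
    ext j r
    have hd1 : pderiv (idx j) good = monomial
        (Finsupp.single 0 (d - 1 - ex j) + Finsupp.single 1 (ex j)) (1 : k) := by
      simp only [good, map_sum]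
      rw [Finset.sum_eq_single (idx j)]
      · rw [pderiv_monomial]
        have h2 := hne (idx j) (hidx _ (Finset.mem_image_of_mem _ (Finset.mem_univ j)))
        have he : ex j = min (2 * ((idx j : ℕ) - 2)) (d - 1) := by simp [ex, idx]
        simp [h2.1, h2.2, ← he]
      · intro i hi hij
        have h2 := hne i (hidx i hi)
        have h3 := hne (idx j) (hidx _ (Finset.mem_image_of_mem _ (Finset.mem_univ j)))
        rw [pderiv_monomial]
        simp [h3.1, h3.2, Ne.symm hij]
      · intro h; exact absurd (Finset.mem_image_of_mem _ (Finset.mem_univ j)) h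
    have hprod : (![X 0, X 1] (sel j) : MvPolynomial (Fin (n + 1)) k) *
        monomial (Finsupp.single 0 (d - 1 - ex j) + Finsupp.single 1 (ex j)) (1 : k) =
        monomial (bin j).1 1 := by
      have := hex j
      rcases Nat.lt_or_ge (ex j) (j : ℕ) with hlt | hge
      · have hs : sel j = 1 := Fin.ext (by simp [sel]; omega)
        rw [hs]
        simp only [Matrix.cons_val_one, Matrix.cons_val_zero, X, monomial_mul, one_mul, bin]
        congr 2
        rw [show (j : ℕ) = ex j + 1 by omega, Finsupp.single_add,
          show d - (ex j + 1) = d - 1 - ex j by omega]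
        abel
      · have hs : sel j = 0 := Fin.ext (by simp [sel]; omega)
        rw [hs]
        simp only [Matrix.cons_val_zero, X, monomial_mul, one_mul, bin]
        congr 2
        have hj := j.2
        have hexd : ex j ≤ d - 1 := min_le_right _ _
        rw [show (j : ℕ) = ex j by omega, show d - ex j = 1 + (d - 1 - ex j) by omega,
          Finsupp.single_add]
        abel
    simp only [N, Matrix.map_apply, Matrix.of_apply, Polynomial.eval_add, Polynomial.eval_mul,
      Polynomial.eval_C, Polynomial.eval_X, mul_zero, add_zero, hc₀f, hd1, hprod, coeff_monomial,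
      Matrix.one_apply]
    by_cases h : j = r
    · simp [h]
    · rw [if_neg h, if_neg fun h' => h (hbin (Subtype.ext h'))]
  have hNdet : N.det ≠ 0 := fun h0 => by
    have := congrArg Matrix.det hN0
    rw [Matrix.det_one] at this
    rw [← Polynomial.coe_evalRingHom, ← RingHom.mapMatrix_apply, ← RingHom.map_det, h0,
      map_zero] at this
    exact zero_ne_one this
  have hNlam : N.mulVec (fun r => lam (bin r)) = 0 := by
    funext j
    refine Polynomial.funext fun t => ?_
    simp only [Matrix.mulVec, dotProduct, Pi.zero_apply, Polynomial.eval_zero,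
      Polynomial.eval_finsetSum, Polynomial.eval_mul]
    have h0 := hT _ (hq t) (idx j) (sel j) (hidx _ (Finset.mem_image_of_mem _ (Finset.mem_univ j)))
    have hlin : form (fun e => (q e).eval t) = form c₀ + C t * form (c - c₀) := by
      simp only [q, form, Finset.mul_sum, C_mul_monomial, ← Finset.sum_add_distrib, ← map_add,
        Polynomial.eval_add, Polynomial.eval_mul, Polynomial.eval_C, Polynomial.eval_X, Pi.sub_apply]
      exact Finset.sum_congr rfl fun e _ => by rw [mul_comm t]
    rw [← Finset.sum_subset (Finset.subset_univ (Finset.univ.image bin))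
      (fun e _ he => by
        have := hhigh e fun r h => he (h ▸ Finset.mem_image_of_mem _ (Finset.mem_univ r))
        rw [← hlam, this]; simp),
      Finset.sum_image fun a _ b _ h => hbin h] at h0
    rw [← h0]
    refine Finset.sum_congr rfl fun r _ => ?_
    rw [← hlam, hlin]
    congr 1
    simp only [N, Matrix.of_apply, Polynomial.eval_add, Polynomial.eval_mul, Polynomial.eval_C,
      Polynomial.eval_X, map_add, pderiv_C_mul, mul_add, coeff_add]
    rw [← mul_assoc, mul_comm _ (C t), mul_assoc, coeff_C_mul]
    ring
  have hall : ∀ e, lam e = 0 := by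
    intro e
    by_cases he : ∃ j, e = bin j
    · obtain ⟨j, rfl⟩ := he
      have : (fun r => lam (bin r)) = 0 := by
        by_contra hne'
        exact hNdet (Matrix.exists_mulVec_eq_zero_iff.1 ⟨_, hne', hNlam⟩)
      exact congrFun this j
    · exact hhigh e fun j h => he ⟨j, h⟩
  refine Finset.sum_eq_zero fun e _ => ?_
  have := hlam 1 e
  rw [hall e, Polynomial.eval_zero] at this
  have hq1 : (fun e => (q e).eval 1) = c := funext fun e => by simp [q]
  rw [hq1] at this
  rw [← this, mul_zero]

/-- The derivatives of an equation vanishing on forms with a line vanish there too. -/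
theorem pderiv_eval_eq_zero (hn : 2 ≤ n) (hd : 1 ≤ d) (hdn : d + 3 ≤ 2 * n) [Infinite k]
    (g : MvPolynomial (Idx n d) k) (hg : ∀ c, HasChartLine c → eval c g = 0) (e : Idx n d)
    {c : Idx n d → k} (hc : HasChartLine c) : eval c (pderiv e g) = 0 := by
        classical
        have hP : IsParam (0 : Fin (n + 1) → k) := ⟨rfl, rfl⟩
        obtain ⟨a, b, ha, hb, hab⟩ := hc
        -- move the line to the standard one
        have hna : IsParam (-a) := ⟨by simp [ha.1], by simp [ha.2]⟩
        have hnb : IsParam (-b) := ⟨by simp [hb.1], by simp [hb.2]⟩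
        set c' := shiftC (-a) (-b) c with hc'
        have h0 : binary (form c') (e0 : Fin (n + 1) → k) e1 = 0 := by
          rw [hc', form_shiftC]
          have := binary_shift hn (a := -a) (b := -b) hP hP (form c)
          rw [add_zero, add_zero] at this
          rw [this, sub_neg_eq_add, sub_neg_eq_add, hab]
        have hinv : ∀ x : Idx n d → k, shiftC a b (shiftC (-a) (-b) x) = x := fun x => by
          have h : form (shiftC a b (shiftC (-a) (-b) x)) = form x := by
            rw [form_shiftC, form_shiftC, shift_shift hn ha hb, neg_add_cancel, neg_add_cancel,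
              shift_zero]
          funext e'
          rw [← coeff_form (shiftC a b (shiftC (-a) (-b) x)) e', h, coeff_form]
        -- pull back along the translation
        let L : Idx n d → MvPolynomial (Idx n d) k := fun e' =>
          ∑ x, C (shiftC a b (Pi.single x (1 : k)) e') * X x
        have hL : ∀ x e', eval x (L e') = shiftC a b x e' := by
          intro x e'
          have hx : x = ∑ y, x y • Pi.single y (1 : k) := by
            funext z; simp [Pi.single_apply]
          conv_rhs => rw [hx]
          simp [L, map_sum, map_smul, Finset.sum_apply, mul_comm]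
        set g' := aeval L g
        have hev : ∀ x, eval x g' = eval (shiftC a b x) g := fun x => by
          rw [← aeval_eq_eval, ← AlgHom.comp_apply, comp_aeval]
          refine congrArg (fun F => aeval F g) (funext fun e' => ?_)
          rw [aeval_eq_eval, hL]
        have hg' : ∀ x, HasChartLine x → eval x g' = 0 := fun x hx => by
          rw [hev]; exact hg _ (hasChartLine_shiftC hn ha hb hx)
        have hz := deriv_eq_zero hn hd hdn g' hg' h0 (shiftC (-a) (-b) (Pi.single e 1))
        -- compare directional derivatives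
        set γ : Idx n d → Polynomial k := fun x =>
          Polynomial.C (c' x) + Polynomial.C (shiftC (-a) (-b) (Pi.single e 1) x) * Polynomial.X
        set γ' : Idx n d → Polynomial k := fun x =>
          Polynomial.C (c x) + Polynomial.C ((Pi.single e 1 : Idx n d → k) x) * Polynomial.X
        have hsame : aeval γ g' = aeval γ' g := Polynomial.funext fun t => by
          rw [eval_aeval_poly, hev, eval_aeval_poly]
          refine congrArg (fun F => eval F g) ?_
          simp only [γ, γ', Polynomial.eval_add, Polynomial.eval_mul,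
            Polynomial.eval_C, Polynomial.eval_X]
          have hx : (fun y => c' y + shiftC (-a) (-b) (Pi.single e 1) y * t) =
              shiftC (-a) (-b) (c + t • Pi.single e 1) := by
            rw [map_add, map_smul]; funext y; simp [hc', mul_comm t]
          rw [hx, hinv]
          funext x
          simp [mul_comm t]
        have hD := congrArg (fun P => Polynomial.eval 0 (Polynomial.derivative P)) hsame
        simp only [derivative_aeval, Polynomial.eval_finsetSum, Polynomial.eval_mul] at hD
        have hγ : ∀ (p : MvPolynomial (Idx n d) k),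
            (aeval γ p).eval 0 = eval c' p ∧ (aeval γ' p).eval 0 = eval c p := fun p => by
          constructor <;>
          · rw [eval_aeval_poly]
            refine congrArg (fun F => eval F p) (funext fun x => ?_)
            simp [γ, γ']
        have hd1 : ∀ x, (Polynomial.derivative (γ x)).eval 0 =
            shiftC (-a) (-b) (Pi.single e 1) x := fun x => by simp [γ]
        have hd2 : ∀ x, (Polynomial.derivative (γ' x)).eval 0 = (Pi.single e 1 : Idx n d → k) x :=
          fun x => by simp [γ']
        simp only [(hγ _).1, (hγ _).2, hd1, hd2] at hD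
        rw [hz, Finset.sum_eq_single e (fun x _ hx => by simp [hx]) (by simp)] at hD
        simpa using hD.symm

/-- Forms containing a line are dense. -/
theorem dominant (hn : 2 ≤ n) (hd : 1 ≤ d) (hdn : d + 3 ≤ 2 * n) [CharZero k]
    (g : MvPolynomial (Idx n d) k) (hg : ∀ c, HasChartLine c → eval c g = 0) : g = 0 := by
  classical
  have : Infinite k := Infinite.of_injective (fun n : ℕ => (n : k)) Nat.cast_injective
  have hP : IsParam (0 : Fin (n + 1) → k) := ⟨rfl, rfl⟩
  induction htd : g.totalDegree using Nat.strong_induction_on generalizing g with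
  | _ N ih =>
    have hpd : ∀ e, pderiv e g = 0 := by
      intro e
      by_cases hdeg : pderiv e g = 0
      · exact hdeg
      exact ih _ (htd ▸ totalDegree_pderiv_lt e g hdeg) _
        (fun c hc => pderiv_eval_eq_zero hn hd hdn g hg e hc) rfl
    -- all derivatives vanish: a constant
    have hconst : g = C (coeff 0 g) := by
      ext m
      by_cases hm : m = 0
      · subst hm; simp
      · obtain ⟨x, hx⟩ := Finsupp.ne_iff.1 hm
        simp only [Finsupp.coe_zero, Pi.zero_apply] at hx
        have := congrArg (coeff (m - Finsupp.single x 1)) (hpd x)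
        rw [coeff_pderiv, coeff_zero, tsub_add_cancel_of_le
          (Finsupp.single_le_iff.2 (Nat.one_le_iff_ne_zero.2 hx))] at this
        rw [coeff_C, if_neg (Ne.symm hm)]
        refine (mul_eq_zero.1 this).resolve_right ?_
        exact Nat.cast_add_one_ne_zero _
    have h0 := hg 0 ⟨0, 0, hP, hP, by simp [form, binary]⟩
    rw [hconst, eval_C] at h0
    rw [hconst, h0, map_zero]

/-- The equations for a line with unknown spanning vectors. -/
noncomputable def lineEq {R : Type w} [CommRing R] (c : Idx n d → R) :
    MvPolynomial (Fin 2) (MvPolynomial (Fin 2 × Fin (n + 1)) R) :=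
  binary (form fun e => C (c e)) (fun i => X (0, i)) (fun i => X (1, i))

/-- The ideal of lines with given pivots. -/
noncomputable def lineIdeal {R : Type w} [CommRing R] (c : Idx n d → R) (r s : Fin (n + 1)) :
    Ideal (MvPolynomial (Fin 2 × Fin (n + 1)) R) :=
  Ideal.span (Set.range (fun m => coeff m (lineEq c)) ∪
    {X (0, r) - 1, X (0, s), X (1, r), X (1, s) - 1})

theorem map_lineEq {R : Type w} {S : Type*} [CommRing R] [CommRing S] (φ : R →+* S)
    (c : Idx n d → R) : MvPolynomial.map (MvPolynomial.map φ) (lineEq c) =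
      lineEq (fun e => φ (c e)) := by
  rw [lineEq, map_binary, map_form]
  simp [lineEq]

theorem lineIdeal_le_ker {R : Type w} {S : Type*} [CommRing R] [CommRing S] (φ : R →+* S)
    (c : Idx n d → R) (r s : Fin (n + 1)) (P Q : Fin (n + 1) → S)
    (h : binary (form fun e => φ (c e)) P Q = 0) (h1 : P r = 1) (h2 : P s = 0) (h3 : Q r = 0)
    (h4 : Q s = 1) :
    lineIdeal c r s ≤ RingHom.ker
      (eval₂Hom φ (fun x : Fin 2 × Fin (n + 1) => if x.1 = 0 then P x.2 else Q x.2)) := by
  rw [lineIdeal, Ideal.span_le]
  set ψ := eval₂Hom φ (fun x : Fin 2 × Fin (n + 1) => if x.1 = 0 then P x.2 else Q x.2)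
  rintro x (⟨m, rfl⟩ | hx)
  · rw [SetLike.mem_coe, RingHom.mem_ker, ← coeff_map, lineEq, map_binary, map_form]
    have e1 : (fun i => ψ (X (0, i))) = P := funext fun i => by simp [ψ]
    have e2 : (fun i => ψ (X (1, i))) = Q := funext fun i => by simp [ψ]
    have e3 : (fun e => ψ (C (c e))) = fun e => φ (c e) := funext fun e => by simp [ψ]
    rw [e1, e2, e3, h, coeff_zero]
  · rcases hx with rfl | rfl | rfl | rfl <;> simp [ψ, h1, h2, h3, h4]

theorem exists_sol_of_le_ker {R : Type w} {S : Type*} [CommRing R] [CommRing S]
    (c : Idx n d → R) (r s : Fin (n + 1)) (ψ : MvPolynomial (Fin 2 × Fin (n + 1)) R →+* S)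
    (h : lineIdeal c r s ≤ RingHom.ker ψ) :
    binary (form fun e => ψ (C (c e))) (fun i => ψ (X (0, i))) (fun i => ψ (X (1, i))) = 0 ∧
      ψ (X (0, r)) = 1 ∧ ψ (X (0, s)) = 0 ∧ ψ (X (1, r)) = 0 ∧ ψ (X (1, s)) = 1 := by
  have hg : ∀ x ∈ Set.range (fun m => coeff m (lineEq c)) ∪
      {X (0, r) - 1, X (0, s), X (1, r), X (1, s) - 1}, ψ x = 0 := fun x hx =>
    h (Ideal.subset_span hx)
  refine ⟨?_, ?_, hg _ (by simp), hg _ (by simp), ?_⟩
  · rw [← map_form ψ, ← map_binary]
    ext m
    rw [coeff_map, coeff_zero]
    exact hg _ (Or.inl ⟨m, rfl⟩)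
  · have h' := hg (X (0, r) - 1) (by simp)
    rwa [map_sub, map_one, sub_eq_zero] at h'
  · have h' := hg (X (1, s) - 1) (by simp)
    rwa [map_sub, map_one, sub_eq_zero] at h'

/-- Every hypersurface of degree `d ≤ 2n - 3` contains a line. -/
theorem exists_line [IsAlgClosed k] [CharZero k] (hd : 1 ≤ d) (hdn : d + 3 ≤ 2 * n)
    {f : MvPolynomial (Fin (n + 1)) k} (hf : f.IsHomogeneous d) :
    ∃ U : Submodule k (Fin (n + 1) → k), Module.finrank k ↥U = 2 ∧ ∀ u ∈ U, eval u f = 0 := by
  classical
  have hn : 2 ≤ n := by omega
  have h01 : (0 : Fin (n + 1)) ≠ 1 := by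
    intro h; have := congrArg Fin.val h; simp [Nat.mod_eq_of_lt (show 1 < n + 1 by omega)] at this
  let R := MvPolynomial (Idx n d) k
  let F := FractionRing R
  let cR : Idx n d → R := fun e => X e
  let cF : Idx n d → F := fun e => algebraMap R F (X e)
  -- the generic form has a line
  have hgen : lineIdeal cF 0 1 ≠ ⊤ := by
    intro htop
    let M := (nonZeroDivisors R).map (C : R →+* MvPolynomial (Fin 2 × Fin (n + 1)) R)
    have : IsLocalization M (MvPolynomial (Fin 2 × Fin (n + 1)) F) :=
      MvPolynomial.isLocalization (nonZeroDivisors R) F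
    have hmap : (lineIdeal cR 0 1).map (algebraMap (MvPolynomial (Fin 2 × Fin (n + 1)) R)
        (MvPolynomial (Fin 2 × Fin (n + 1)) F)) = lineIdeal cF 0 1 := by
      show (lineIdeal cR 0 1).map (MvPolynomial.map (algebraMap R F)) = _
      rw [lineIdeal, Ideal.map_span, lineIdeal]
      congr 1
      rw [Set.image_union, ← Set.range_comp]
      congr 1
      · congr 1
        funext m
        simp only [Function.comp_apply]
        rw [← coeff_map, map_lineEq]
      · simp [Set.image_insert_eq]
    rw [← hmap] at htop
    have hnd := mt (IsLocalization.map_algebraMap_ne_top_iff_disjoint M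
      (MvPolynomial (Fin 2 × Fin (n + 1)) F) (lineIdeal cR 0 1)).2 (not_not.2 htop)
    rw [Set.not_disjoint_iff] at hnd
    obtain ⟨x, hxM, hxI⟩ := hnd
    obtain ⟨Δ, hΔ, rfl⟩ := Submonoid.mem_map.1 hxM
    refine nonZeroDivisors.ne_zero hΔ (dominant hn hd hdn Δ fun c hc => ?_)
    obtain ⟨a, b, ha, hb, hab⟩ := hc
    have := lineIdeal_le_ker (eval c) cR 0 1 (e0 + a) (e1 + b) (by simpa [cR] using hab)
      (by simp [e0, ha.1]) (by simp [e0, ha.2, Ne.symm h01]) (by simp [e1, hb.1, h01])
      (by simp [e1, hb.2]) hxI
    simpa using this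
  -- a solution in an extension field
  obtain ⟨Mx, hMx, hle⟩ := Ideal.exists_le_maximal _ hgen
  let L := MvPolynomial (Fin 2 × Fin (n + 1)) F ⧸ Mx
  let _ : Field L := Ideal.Quotient.field Mx
  obtain ⟨hbin, hP0, hP1, hQ0, hQ1⟩ := exists_sol_of_le_ker cF 0 1 (Ideal.Quotient.mk Mx)
    (by rw [Ideal.mk_ker]; exact hle)
  set P : Fin (n + 1) → L := fun i => Ideal.Quotient.mk Mx (X (0, i))
  set Q : Fin (n + 1) → L := fun i => Ideal.Quotient.mk Mx (X (1, i))
  let φ : R →+* L := ((Ideal.Quotient.mk Mx).comp C).comp (algebraMap R F)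
  have hφ : Function.Injective φ :=
    (((Ideal.Quotient.mk Mx).comp C).injective).comp (IsFractionRing.injective R F)
  -- specialise at `f`
  let c₀ : Idx n d → k := fun e => coeff e.1 f
  let m₀ : Ideal φ.range := (RingHom.ker (eval c₀)).map φ.rangeRestrict
  have hm₀ : m₀ ≠ ⊤ := by
    intro h
    have h1 : (1 : φ.range) ∈ m₀ := h ▸ Submodule.mem_top
    rw [Ideal.mem_map_iff_of_surjective _ φ.rangeRestrict_surjective] at h1
    obtain ⟨p, hp, hp1⟩ := h1
    have : φ p = φ 1 := by rw [map_one]; exact congrArg Subtype.val hp1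
    rw [hφ this] at hp
    simp at hp
  obtain ⟨O, hO, hnon⟩ := Ideal.image_subset_nonunits_valuationSubring m₀ hm₀
  -- choose the pivots
  let mi : Fin (n + 1) → Fin (n + 1) → L := fun i j => P i * Q j - P j * Q i
  obtain ⟨⟨r, s⟩, -, hmax⟩ := Finset.exists_max_image Finset.univ
    (fun x : Fin (n + 1) × Fin (n + 1) => O.valuation (mi x.1 x.2)) Finset.univ_nonempty
  have hm01 : mi 0 1 = 1 := by simp [mi, P, Q, hP0, hP1, hQ0, hQ1]
  have hD : mi r s ≠ 0 := by
    intro h0
    have := hmax (0, 1) (Finset.mem_univ _)
    simp [hm01, h0] at this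
  have hmemO : ∀ i j, mi i j / mi r s ∈ O := fun i j => by
    rw [← O.valuation_le_one_iff, map_div₀]
    exact (div_le_one₀ (zero_lt_iff.2 ((Valuation.ne_zero_iff _).2 hD))).2
      (hmax (i, j) (Finset.mem_univ _))
  set P' : Fin (n + 1) → L := fun i => (Q s / mi r s) * P i + (-(P s) / mi r s) * Q i
  set Q' : Fin (n + 1) → L := fun i => (-(Q r) / mi r s) * P i + (P r / mi r s) * Q i
  have hbin' := binary_change _ P Q (Q s / mi r s) (-(P s) / mi r s) (-(Q r) / mi r s)
    (P r / mi r s) hbin
  have hP'O : ∀ i, P' i ∈ O := fun i => by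
    convert hmemO i s using 1; simp only [P', mi]; ring
  have hQ'O : ∀ i, Q' i ∈ O := fun i => by
    convert hmemO r i using 1; simp only [Q', mi]; ring
  have hcO : ∀ p, φ p ∈ O := fun p => hO ⟨p, rfl⟩
  let φO : R →+* O := φ.codRestrict O.toSubring hcO
  have hres : ∀ e : Idx n d, IsLocalRing.residue O (φO (X e)) =
      IsLocalRing.residue O (φO (C (c₀ e))) := by
    intro e
    rw [← sub_eq_zero, ← map_sub, ← map_sub, IsLocalRing.residue_eq_zero_iff]
    have hp : (X e - C (c₀ e) : R) ∈ RingHom.ker (eval c₀) := by
      rw [RingHom.mem_ker, map_sub, sub_eq_zero]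
      exact (eval_X (f := c₀) e).trans (eval_C (f := c₀) (c₀ e)).symm
    have := hnon ⟨_, Ideal.mem_map_of_mem φ.rangeRestrict hp, rfl⟩
    exact (O.coe_mem_nonunits_iff).1 this
  let κ := IsLocalRing.ResidueField O
  let _ : Algebra k κ := (((IsLocalRing.residue O).comp φO).comp C).toAlgebra
  have hzero : binary (form fun e : Idx n d => φO (X e)) (fun i => (⟨P' i, hP'O i⟩ : O))
      (fun i => (⟨Q' i, hQ'O i⟩ : O)) = 0 := by
    refine MvPolynomial.map_injective O.subtype Subtype.val_injective ?_
    rw [map_zero, map_binary, map_form]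
    exact hbin'
  have hzκ := congrArg (MvPolynomial.map (IsLocalRing.residue O)) hzero
  rw [map_zero, map_binary, map_form] at hzκ
  simp only [hres] at hzκ
  have hid : lineIdeal c₀ r s ≠ ⊤ := by
    intro htop
    have e1 : P' r = 1 :=
      (show P' r = mi r s / mi r s by simp only [P', mi]; ring).trans (div_self hD)
    have e2 : P' s = 0 := by simp only [P']; ring
    have e3 : Q' r = 0 := by simp only [Q']; ring
    have e4 : Q' s = 1 :=
      (show Q' s = mi r s / mi r s by simp only [Q', mi]; ring).trans (div_self hD)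
    have := lineIdeal_le_ker (algebraMap k κ) c₀ r s _ _ hzκ
      (by simp [show (⟨P' r, hP'O r⟩ : O) = 1 from Subtype.ext e1])
      (by simp [show (⟨P' s, hP'O s⟩ : O) = 0 from Subtype.ext e2])
      (by simp [show (⟨Q' r, hQ'O r⟩ : O) = 0 from Subtype.ext e3])
      (by simp [show (⟨Q' s, hQ'O s⟩ : O) = 1 from Subtype.ext e4])
      (htop ▸ Submodule.mem_top : (1 : MvPolynomial (Fin 2 × Fin (n + 1)) k) ∈ _)
    simp at this
  -- a rational solution
  obtain ⟨Mk, hMk, hlek⟩ := Ideal.exists_le_maximal _ hid
  obtain ⟨x, hx⟩ := (MvPolynomial.isMaximal_iff_eq_vanishingIdeal_singleton (K := k)).1 hMk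
  have hker : lineIdeal c₀ r s ≤ RingHom.ker (eval x) := fun p hp => by
    have := hlek hp
    rw [hx, mem_vanishingIdeal_singleton_iff, aeval_eq_eval] at this
    exact this
  obtain ⟨hb, h1, h2, h3, h4⟩ := exists_sol_of_le_ker c₀ r s (eval x) hker
  simp only [eval_X, eval_C] at hb h1 h2 h3 h4
  rw [form_coeff hf] at hb
  set Pk : Fin (n + 1) → k := fun i => x (0, i)
  set Qk : Fin (n + 1) → k := fun i => x (1, i)
  refine ⟨Submodule.span k {Pk, Qk}, ?_, fun u hu => ?_⟩
  · have hli : LinearIndependent k ![Pk, Qk] := LinearIndependent.pair_iff.2 fun a b hab =>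
      ⟨by simpa [Pk, Qk, h1, h3] using congrFun hab r,
        by simpa [Pk, Qk, h2, h4] using congrFun hab s⟩
    have := finrank_span_eq_card hli
    rw [Matrix.range_cons_cons_empty, Fintype.card_fin] at this
    exact this
  · obtain ⟨a, b, rfl⟩ := Submodule.mem_span_pair.1 hu
    have := congrArg (eval ![a, b]) hb
    rw [eval_binary, map_zero] at this
    rw [← this]
    congr 2
    funext i
    simp [Pk, Qk, mul_comm]

end Groth.Agent.H83.LineExist
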