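import Groth.Agent.H83.Cubic.Star

/-!
# Lines through a point of a smooth cubic surface

* `star_of_lines`, `exists_lines_of_star`: a point lies on three lines iff it is a star point;
* `exists_proj_zeros`: a nonzero binary cubic form has at most three zeros.
-/

set_option autoImplicit false
set_option linter.unusedSectionVars false

universe u

open MvPolynomial

namespace Groth.Agent.H83.Cubic

variable {k : Type u} [Field k] [CharZero k]
variable {f : MvPolynomial (Fin 4) k}
  {T : (Fin 4 → k) →ₗ[k] (Fin 4 → k) →ₗ[k] (Fin 4 → k) →ₗ[k] k}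

/-- Three linearly independent vectors of a hyperplane of `k^4` span it. -/
theorem span_eq_ker {φ : (Fin 4 → k) →ₗ[k] k} (hφ : φ ≠ 0) {a b c : Fin 4 → k}
    (hi : ∀ x y z : k, x • a + y • b + z • c = 0 → x = 0 ∧ y = 0 ∧ z = 0)
    (ha : φ a = 0) (hb : φ b = 0) (hc : φ c = 0) {w : Fin 4 → k} (hw : φ w = 0) :
    ∃ x y z : k, w = x • a + y • b + z • c := by
  have hli : LinearIndependent k ![a, b, c] := by
    rw [Fintype.linearIndependent_iff]
    intro g hg i
    simp only [Fin.sum_univ_three, Matrix.cons_val_zero, Matrix.cons_val_one,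
      Matrix.cons_val_two, Matrix.tail_cons, Matrix.head_cons] at hg
    obtain ⟨h0, h1, h2⟩ := hi _ _ _ hg
    fin_cases i <;> assumption
  have hle : Submodule.span k (Set.range ![a, b, c]) ≤ LinearMap.ker φ := by
    rw [Submodule.span_le]
    rintro _ ⟨i, rfl⟩
    fin_cases i <;> simp [ha, hb, hc]
  have hrk := φ.finrank_range_add_finrank_ker
  rw [Module.finrank_fintype_fun_eq_card, Fintype.card_fin] at hrk
  have h1 : 0 < Module.finrank k (LinearMap.range φ) := by
    rw [Nat.pos_iff_ne_zero, Ne, Submodule.finrank_eq_zero, LinearMap.range_eq_bot]; exact hφ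
  have heq := Submodule.eq_of_le_of_finrank_le hle
    (by rw [finrank_span_eq_card hli, Fintype.card_fin]; omega)
  have hwmem : w ∈ LinearMap.ker φ := hw
  rw [← heq] at hwmem
  obtain ⟨g, hg⟩ := (Submodule.mem_span_range_iff_exists_fun k).1 hwmem
  exact ⟨g 0, g 1, g 2, by rw [← hg, Fin.sum_univ_three]; rfl⟩

theorem mem_line_iff {U : Submodule k (Fin 4 → k)} (hU : Module.finrank k ↥U = 2)
    {e : Fin 4 → k} (he : e ≠ 0) (hm : e ∈ U) :
    ∃ w ∈ U, w ∉ Submodule.span k {e} ∧ U = Submodule.span k {e, w} := by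
  have : ¬ U ≤ Submodule.span k {e} := fun h => by
    have := Submodule.finrank_mono h
    rw [hU, finrank_span_singleton he] at this
    omega
  obtain ⟨w, hw, hwe⟩ := SetLike.not_le_iff_exists.1 this
  refine ⟨w, hw, hwe, ?_⟩
  have hle : Submodule.span k {e, w} ≤ U := by
    rw [Submodule.span_le]; rintro x (rfl | rfl) <;> assumption
  refine (Submodule.eq_of_le_of_finrank_le hle ?_).symm
  rw [hU]
  have hlt : Submodule.span k {e} < Submodule.span k {e, w} :=
    lt_of_le_of_ne (Submodule.span_mono (by simp))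
      fun h => hwe (h ▸ Submodule.subset_span (by simp))
  have := Submodule.finrank_lt_finrank_of_lt hlt
  rw [finrank_span_singleton he] at this
  omega

/-- A point on three lines is a star point. -/
theorem star_of_lines [IsAlgClosed k] (h : IsPolar f T) (hs : ∀ v, v ≠ 0 → T v v ≠ 0)
    {e : Fin 4 → k} (he : e ≠ 0)
    (hE : ∃ U : Fin 3 → Submodule k (Fin 4 → k), Function.Injective U ∧
      ∀ i : Fin 3, Module.finrank k ↥(U i) = 2 ∧ e ∈ U i ∧ ∀ u ∈ U i, eval u f = 0) :
    Star T e := by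
  obtain ⟨U, hUi, hU⟩ := hE
  have hfe : T e e e = 0 := by rw [← h.eval_eq]; exact (hU 0).2.2 e (hU 0).2.1
  choose w hwU hwe hUw using fun i => mem_line_iff (hU i).1 he (hU i).2.1
  have hℓ : ∀ i, T e e (w i) = 0 := fun i =>
    h.eq_zero_of_eval_eq_zero (hU i).2.2 (hU i).2.1 (hU i).2.1 (hwU i)
  have hq : ∀ i, T e (w i) (w i) = 0 := fun i =>
    h.eq_zero_of_eval_eq_zero (hU i).2.2 (hU i).2.1 (hwU i) (hwU i)
  have hne : ∀ i j, i ≠ j → w j ∉ U i := fun i j hij hm => hij (hUi (by
    refine (Submodule.eq_of_le_of_finrank_le ?_ (le_of_eq ((hU i).1.trans (hU j).1.symm))).symm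
    rw [hUw j, Submodule.span_le]
    rintro x (rfl | rfl)
    · exact (hU i).2.1
    · exact hm))
  have hind : ∀ x y z : k, x • e + y • w 0 + z • w 1 = 0 → x = 0 ∧ y = 0 ∧ z = 0 := by
    intro x y z hxyz
    have hz : z = 0 := by
      by_contra hz
      apply hne 0 1 (by decide)
      have : w 1 = z⁻¹ • (-(x • e) - y • w 0) := by
        rw [eq_inv_smul_iff₀ hz]; linear_combination (norm := module) hxyz
      rw [this]
      exact (U 0).smul_mem _ ((U 0).sub_mem ((U 0).neg_mem ((U 0).smul_mem _ (hU 0).2.1))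
        ((U 0).smul_mem _ (hwU 0)))
    have hy : y = 0 := by
      by_contra hy
      apply hwe 0
      have : w 0 = y⁻¹ • (-(x • e)) := by
        rw [eq_inv_smul_iff₀ hy]
        rw [hz] at hxyz
        linear_combination (norm := module) hxyz
      rw [this]
      exact Submodule.smul_mem _ _ (Submodule.neg_mem _ (Submodule.smul_mem _ _
        (Submodule.mem_span_singleton_self e)))
    refine ⟨?_, hy, hz⟩
    rw [hy, hz, zero_smul, zero_smul, add_zero, add_zero, smul_eq_zero] at hxyz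
    exact hxyz.resolve_right he
  have hℓne := hs e he
  obtain ⟨a, b, c, hw2⟩ := span_eq_ker hℓne hind hfe (hℓ 0) (hℓ 1) (hℓ 2)
  have h01 : T e (w 0) (w 1) = 0 := by
    have h2 := hq 2
    simp only [hw2, map_add, map_smul, LinearMap.add_apply, LinearMap.smul_apply, smul_eq_mul,
      hfe, hℓ 0, hℓ 1, h.symm₂ e (w 0) e, h.symm₂ e (w 1) e, hq 0, hq 1,
      h.symm₂ e (w 1) (w 0)] at h2
    have hb : b ≠ 0 := fun hb => hne 1 2 (by decide) (by
      rw [hw2, hb]
      exact (U 1).add_mem ((U 1).add_mem ((U 1).smul_mem _ (hU 1).2.1) (by simp))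
        ((U 1).smul_mem _ (hwU 1)))
    have hc : c ≠ 0 := fun hc => hne 0 2 (by decide) (by
      rw [hw2, hc]
      exact (U 0).add_mem ((U 0).add_mem ((U 0).smul_mem _ (hU 0).2.1)
        ((U 0).smul_mem _ (hwU 0))) (by simp))
    have : b * c * T e (w 0) (w 1) = 0 := by linear_combination ((1 : k) / 2) * h2
    exact (mul_eq_zero.1 this).resolve_left (mul_ne_zero hb hc)
  refine ⟨he, hfe, fun x y hx hy => ?_⟩
  obtain ⟨x0, x1, x2, rfl⟩ := span_eq_ker hℓne hind hfe (hℓ 0) (hℓ 1) hx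
  obtain ⟨y0, y1, y2, rfl⟩ := span_eq_ker hℓne hind hfe (hℓ 0) (hℓ 1) hy
  simp only [map_add, map_smul, LinearMap.add_apply, LinearMap.smul_apply, smul_eq_mul, hfe,
    hℓ 0, hℓ 1, h.symm₂ e (w 0) e, h.symm₂ e (w 1) e, hq 0, hq 1, h.symm₂ e (w 1) (w 0), h01]
  ring

/-- A star point of a smooth cubic surface lies on three lines. -/
theorem exists_lines_of_star [IsAlgClosed k] (h : IsPolar f T) (hs : ∀ v, v ≠ 0 → T v v ≠ 0)
    {e : Fin 4 → k} (he : Star T e) :
    ∃ U : Fin 3 → Submodule k (Fin 4 → k), Function.Injective U ∧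
      ∀ i : Fin 3, Module.finrank k ↥(U i) = 2 ∧ e ∈ U i ∧ ∀ u ∈ U i, eval u f = 0 := by
  obtain ⟨m, hm1, hm⟩ := he.exists_m h hs
  set W := LinearMap.ker ((T e e).prod m)
  have hmemW : ∀ {y}, y ∈ W ↔ T e e y = 0 ∧ m y = 0 := fun {y} => by simp [W]
  obtain ⟨u₁, u₂, hu₁, hu₂, hind⟩ := exists_indep_of_two_le (U := W) (by
    have hrk := ((T e e).prod m).finrank_range_add_finrank_ker
    have := Submodule.finrank_le (LinearMap.range ((T e e).prod m))
    rw [Module.finrank_prod, Module.finrank_self] at this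
    rw [Module.finrank_fintype_fun_eq_card, Fintype.card_fin] at hrk
    simp only [W]
    omega)
  rw [hmemW] at hu₁ hu₂
  have hindE : ∀ x y z : k, x • e + y • u₁ + z • u₂ = 0 → x = 0 ∧ y = 0 ∧ z = 0 := by
    intro x y z hxyz
    have hx : x = 0 := by
      have := congrArg m hxyz
      simpa [hm1, hu₁.2, hu₂.2] using this
    rw [hx, zero_smul, zero_add] at hxyz
    exact ⟨hx, hind y z hxyz⟩
  -- no double zeros
  have hsimple : ∀ a b : Fin 4 → k, T e e a = 0 → m a = 0 → T e e b = 0 → m b = 0 →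
      (∀ x y z : k, x • e + y • a + z • b = 0 → x = 0 ∧ y = 0 ∧ z = 0) → T a a a = 0 →
      T a a b ≠ 0 := by
    intro a b ha hma hb hmb hi haa hab
    refine no_pencil h hs (T e e) e a (fun x y hxy => ⟨?_, ?_⟩) (fun y hy => hy)
      (fun y hy => he.2.2 a y ha hy) (fun y hy => ?_)
    · exact (hi x y 0 (by rw [hxy, zero_smul, add_zero])).1
    · exact (hi x y 0 (by rw [hxy, zero_smul, add_zero])).2.1
    · obtain ⟨p, q, r, rfl⟩ := span_eq_ker (hs e he.1) hi he.2.1 ha hb hy
      simp only [map_add, map_smul, smul_eq_mul, h.symm₃ a a e, he.2.2 a a ha ha, haa, hab]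
      ring
  -- a first zero
  obtain ⟨w₁, u, hw, hu, hi, hw₁⟩ : ∃ w₁ u : Fin 4 → k, (T e e w₁ = 0 ∧ m w₁ = 0) ∧
      (T e e u = 0 ∧ m u = 0) ∧
      (∀ x y z : k, x • e + y • w₁ + z • u = 0 → x = 0 ∧ y = 0 ∧ z = 0) ∧ T w₁ w₁ w₁ = 0 := by
    by_cases h1 : T u₁ u₁ u₁ = 0
    · exact ⟨u₁, u₂, hu₁, hu₂, hindE, h1⟩
    · obtain ⟨t, ht⟩ := IsAlgClosed.exists_root
        (Polynomial.C (T u₁ u₁ u₁) * Polynomial.X ^ 3 +
          Polynomial.C (3 * T u₁ u₁ u₂) * Polynomial.X ^ 2 +
          Polynomial.C (3 * T u₁ u₂ u₂) * Polynomial.X + Polynomial.C (T u₂ u₂ u₂))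
        (by rw [Polynomial.degree_cubic h1]; exact three_ne_zero)
      simp only [Polynomial.IsRoot.def, Polynomial.eval_add, Polynomial.eval_mul,
        Polynomial.eval_C, Polynomial.eval_pow, Polynomial.eval_X] at ht
      refine ⟨t • u₁ + u₂, u₁, ⟨by simp [hu₁.1, hu₂.1], by simp [hu₁.2, hu₂.2]⟩, hu₁,
        fun x y z hxyz => ?_, ?_⟩
      · obtain ⟨hx, hy, hz⟩ := hindE x (y * t + z) y (by rw [← hxyz]; module)
        exact ⟨hx, hz, by rw [hz, zero_mul, zero_add] at hy; exact hy⟩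
      · simp only [map_add, map_smul, LinearMap.add_apply, LinearMap.smul_apply, smul_eq_mul,
          h.symm₁ u₂ u₁ u₁, h.symm₂ u₁ u₂ u₁, h.symm₁ u₂ u₁ u₂, h.symm₃ u₂ u₂ u₁]
        linear_combination ht
  have hA := hsimple w₁ u hw.1 hw.2 hu.1 hu.2 hi hw₁
  -- the other two zeros
  obtain ⟨r, hr⟩ := IsAlgClosed.exists_root
    (Polynomial.C (3 * T w₁ w₁ u) * Polynomial.X ^ 2 + Polynomial.C (3 * T w₁ u u) * Polynomial.X +
      Polynomial.C (T u u u))
    (by rw [Polynomial.degree_quadratic (mul_ne_zero (by norm_num) hA)]; exact two_ne_zero)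
  simp only [Polynomial.IsRoot.def, Polynomial.eval_add, Polynomial.eval_mul, Polynomial.eval_C,
    Polynomial.eval_pow, Polynomial.eval_X] at hr
  set r' := -(T w₁ u u / T w₁ w₁ u) - r with hr'
  have hsum : T w₁ u u = -(T w₁ w₁ u) * (r + r') := by rw [hr']; field_simp; ring
  have hzero : ∀ t, (t = r ∨ t = r') → T (u + t • w₁) (u + t • w₁) (u + t • w₁) = 0 := by
    intro t ht
    simp only [map_add, map_smul, LinearMap.add_apply, LinearMap.smul_apply, smul_eq_mul,
      h.symm₁ u w₁ w₁, h.symm₂ w₁ u w₁, h.symm₁ u w₁ u, h.symm₃ u u w₁, hw₁]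
    rcases ht with rfl | rfl
    · linear_combination hr
    · rw [hsum] at hr ⊢
      linear_combination hr
  have hne : r ≠ r' := by
    intro hrr
    refine hsimple (u + r • w₁) w₁ (by simp [hw.1, hu.1]) (by simp [hw.2, hu.2]) hw.1 hw.2
      (fun x y z hxyz => ?_) (hzero r (Or.inl rfl)) ?_
    · obtain ⟨hx, hy, hz⟩ := hi x (y * r + z) y (by rw [← hxyz]; module)
      exact ⟨hx, hz, by rw [hz, zero_mul, zero_add] at hy; exact hy⟩
    · simp only [map_add, map_smul, LinearMap.add_apply, LinearMap.smul_apply, smul_eq_mul,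
        h.symm₂ u w₁ w₁, h.symm₁ u w₁ w₁, h.symm₂ w₁ u w₁, h.symm₁ u w₁ u, h.symm₃ u u w₁, hw₁]
      rw [← hrr] at hsum
      rw [hsum]
      ring
  have hline : ∀ z : Fin 4 → k, T e e z = 0 → m z = 0 → z ≠ 0 → T z z z = 0 →
      Module.finrank k ↥(Submodule.span k {e, z}) = 2 ∧ e ∈ Submodule.span k {e, z} ∧
        ∀ v ∈ Submodule.span k {e, z}, eval v f = 0 := by
    intro z hz hmz hz0 hzz
    refine ⟨?_, Submodule.subset_span (by simp),
      (forall_span_iff h he (by rw [h.eval_eq, hzz])).2 hz⟩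
    have hli : LinearIndependent k ![e, z] := LinearIndependent.pair_iff.2 fun s t hst => by
      have hs0 : s = 0 := by simpa [hm1, hmz] using congrArg m hst
      rw [hs0, zero_smul, zero_add, smul_eq_zero] at hst
      exact ⟨hs0, hst.resolve_right hz0⟩
    have := finrank_span_eq_card hli
    rw [Matrix.range_cons_cons_empty, Fintype.card_fin] at this
    exact this
  have hU : ∀ {a b}, a ∈ W → b ∈ W → Submodule.span k {e, a} = Submodule.span k {e, b} →
      ∃ y : k, a = y • b := by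
    intro a b ha hb hab
    obtain ⟨x, y, hxy⟩ := Submodule.mem_span_pair.1
      (hab ▸ Submodule.subset_span (by simp) : a ∈ Submodule.span k {e, b})
    have hx : x = 0 := by
      have := congrArg m hxy
      rw [hmemW] at ha hb
      simpa [hm1, ha.2, hb.2] using this
    exact ⟨y, by rw [← hxy, hx]; module⟩
  have hW : ∀ t : k, u + t • w₁ ∈ W := fun t => hmemW.2 ⟨by simp [hu.1, hw.1], by simp [hu.2, hw.2]⟩
  have hW₁ : w₁ ∈ W := hmemW.2 hw
  have d1 : ∀ t : k, ∀ y : k, w₁ ≠ y • (u + t • w₁) := fun t y hy => by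
    obtain ⟨-, h1, h2⟩ := hi 0 (y * t - 1) y (by linear_combination (norm := module) -hy)
    rw [h2, zero_mul, zero_sub, neg_eq_zero] at h1
    exact one_ne_zero h1
  have d2 : ∀ s t : k, s ≠ t → ∀ y : k, u + s • w₁ ≠ y • (u + t • w₁) := fun s t hst y hy => by
    obtain ⟨-, h1, h2⟩ := hi 0 (s - y * t) (1 - y) (by linear_combination (norm := module) hy)
    rw [← sub_eq_zero.1 h2, one_mul, sub_eq_zero] at h1
    exact hst h1
  refine ⟨![Submodule.span k {e, w₁}, Submodule.span k {e, u + r • w₁},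
    Submodule.span k {e, u + r' • w₁}], ?_, ?_⟩
  · intro i j hij
    fin_cases i <;> fin_cases j <;> simp at hij ⊢
    · obtain ⟨y, hy⟩ := hU hW₁ (hW r) hij
      exact d1 r y hy
    · obtain ⟨y, hy⟩ := hU hW₁ (hW r') hij
      exact d1 r' y hy
    · obtain ⟨y, hy⟩ := hU hW₁ (hW r) hij.symm
      exact d1 r y hy
    · obtain ⟨y, hy⟩ := hU (hW r) (hW r') hij
      exact d2 r r' hne y hy
    · obtain ⟨y, hy⟩ := hU hW₁ (hW r') hij.symm
      exact d1 r' y hy
    · obtain ⟨y, hy⟩ := hU (hW r') (hW r) hij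
      exact d2 r' r hne.symm y hy
  · have hz : ∀ t, (t = r ∨ t = r') → u + t • w₁ ≠ 0 := fun t _ h0 => by
      obtain ⟨-, -, h2⟩ := hi 0 t 1 (by rw [← h0]; module)
      exact one_ne_zero h2
    intro i
    fin_cases i
    · exact hline w₁ hw.1 hw.2 (fun h0 => d1 0 0 (by rw [h0, zero_smul])) hw₁
    · exact hline _ (by simp [hu.1, hw.1]) (by simp [hu.2, hw.2]) (hz r (Or.inl rfl))
        (hzero r (Or.inl rfl))
    · exact hline _ (by simp [hu.1, hw.1]) (by simp [hu.2, hw.2]) (hz r' (Or.inr rfl))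
        (hzero r' (Or.inr rfl))

/-- A nonzero binary cubic form has at most three zeros up to scaling. -/
theorem exists_proj_zeros (a b c d : k) (h : ¬(a = 0 ∧ b = 0 ∧ c = 0 ∧ d = 0)) :
    ∃ s : Finset (k × k), s.card ≤ 3 ∧ ∀ x y : k, (x ≠ 0 ∨ y ≠ 0) →
      a * x ^ 3 + b * (x ^ 2 * y) + c * (x * y ^ 2) + d * y ^ 3 = 0 →
      ∃ p ∈ s, ∃ r : k, r ≠ 0 ∧ x = r * p.1 ∧ y = r * p.2 := by
  classical
  set P := Polynomial.C a * Polynomial.X ^ 3 + Polynomial.C b * Polynomial.X ^ 2 +
    Polynomial.C c * Polynomial.X + Polynomial.C d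
  have hP : P ≠ 0 := fun hP => h ⟨by simpa [P, Polynomial.coeff_X] using congrArg (·.coeff 3) hP,
    by simpa [P, Polynomial.coeff_X] using congrArg (·.coeff 2) hP,
    by simpa [P, Polynomial.coeff_X] using congrArg (·.coeff 1) hP,
    by simpa [P, Polynomial.coeff_X] using congrArg (·.coeff 0) hP⟩
  have hroot : ∀ x y : k, y ≠ 0 →
      a * x ^ 3 + b * (x ^ 2 * y) + c * (x * y ^ 2) + d * y ^ 3 = 0 →
      x / y ∈ P.roots.toFinset := by
    intro x y hy he
    rw [Multiset.mem_toFinset, Polynomial.mem_roots hP]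
    simp only [P, Polynomial.IsRoot.def, Polynomial.eval_add, Polynomial.eval_mul,
      Polynomial.eval_C, Polynomial.eval_pow, Polynomial.eval_X]
    field_simp
    linear_combination he
  have hdeg : P.natDegree ≤ 3 := Polynomial.natDegree_cubic_le
  refine ⟨(P.roots.toFinset.image fun t => (t, (1 : k))) ∪ if a = 0 then {(1, 0)} else ∅,
    ?_, fun x y hxy he => ?_⟩
  · refine (Finset.card_union_le _ _).trans ?_
    have h1 : (P.roots.toFinset.image fun t => (t, (1 : k))).card ≤ P.natDegree :=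
      Finset.card_image_le.trans ((Multiset.toFinset_card_le _).trans P.card_roots')
    by_cases ha : a = 0
    · rw [if_pos ha, Finset.card_singleton]
      have : P.natDegree ≤ 2 := by
        simp only [P, ha, map_zero, zero_mul, zero_add]
        exact Polynomial.natDegree_quadratic_le
      omega
    · rw [if_neg ha, Finset.card_empty]; omega
  · by_cases hy : y = 0
    · subst hy
      have hx : x ≠ 0 := by simpa using hxy
      have ha : a = 0 := by
        have : a * x ^ 3 = 0 := by linear_combination he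
        exact (mul_eq_zero.1 this).resolve_right (pow_ne_zero _ hx)
      exact ⟨(1, 0), Finset.mem_union_right _ (by simp [ha]), x, hx, by simp, by simp⟩
    · exact ⟨(x / y, 1), Finset.mem_union_left _ (Finset.mem_image_of_mem _ (hroot x y hy he)),
        y, hy, by field_simp, by simp⟩

end Groth.Agent.H83.Cubic
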