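import Groth.Agent.H83.Cubic.Eckardt

/-!
# Flexes of smooth plane cubics

* `star_of_flex`, `flex_of_star`: flexes are the star points;
* `exists_auto_map`: the reflections act transitively on the flexes.
-/

set_option autoImplicit false
set_option linter.unusedSectionVars false

universe u

open MvPolynomial

namespace Groth.Agent.H83.Cubic

variable {k : Type u} [Field k] [CharZero k]
variable {f : MvPolynomial (Fin 3) k}
  {T : (Fin 3 → k) →ₗ[k] (Fin 3 → k) →ₗ[k] (Fin 3 → k) →ₗ[k] k}

/-- Two independent vectors of a line of `k^3` span it. -/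
theorem span_eq_ker₂ {φ : (Fin 3 → k) →ₗ[k] k} (hφ : φ ≠ 0) {a b : Fin 3 → k}
    (hi : LinearIndependent k ![a, b])
    (ha : φ a = 0) (hb : φ b = 0) {w : Fin 3 → k} (hw : φ w = 0) :
    ∃ x y : k, x • a + y • b = w := by
  have hle : Submodule.span k {a, b} ≤ LinearMap.ker φ := by
    rw [Submodule.span_le]
    rintro x (rfl | rfl) <;> assumption
  have hrk := φ.finrank_range_add_finrank_ker
  rw [Module.finrank_fintype_fun_eq_card, Fintype.card_fin] at hrk
  have h1 : 0 < Module.finrank k (LinearMap.range φ) := by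
    rw [Nat.pos_iff_ne_zero, Ne, Submodule.finrank_eq_zero, LinearMap.range_eq_bot]; exact hφ
  have hcard := finrank_span_eq_card hi
  rw [Matrix.range_cons_cons_empty, Fintype.card_fin] at hcard
  have heq := Submodule.eq_of_le_of_finrank_le hle (by omega)
  have hwmem : w ∈ LinearMap.ker φ := hw
  rw [← heq] at hwmem
  exact Submodule.mem_span_pair.1 hwmem

theorem star_of_flex [IsAlgClosed k] (h : IsPolar f T) (hs : ∀ v, v ≠ 0 → T v v ≠ 0)
    {v w : Fin 3 → k} (hv : v ≠ 0) (hfv : eval v f = 0) (hi : LinearIndependent k ![v, w])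
    (hw : ∀ t : k, eval (v + t • w) f = t ^ 3 * eval w f) : Star T v := by
  have hvv : T v v v = 0 := by rw [← h.eval_eq, hfv]
  have e1 := hw 1
  have e2 := hw (-1)
  rw [h.eval_add_smul, hfv] at e1 e2
  have h1 : T v v w = 0 := by linear_combination ((1 : k) / 6) * e1 - ((1 : k) / 6) * e2
  have h2 : T v w w = 0 := by linear_combination ((1 : k) / 6) * e1 + ((1 : k) / 6) * e2
  refine ⟨hv, hvv, fun x y hx hy => ?_⟩
  obtain ⟨a, b, rfl⟩ := span_eq_ker₂ (hs v hv) hi hvv h1 hx
  obtain ⟨c, d, rfl⟩ := span_eq_ker₂ (hs v hv) hi hvv h1 hy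
  simp only [map_add, map_smul, LinearMap.add_apply, LinearMap.smul_apply, smul_eq_mul, hvv, h1,
    h2, h.symm₂ v w v]
  ring

theorem flex_of_star [IsAlgClosed k] (h : IsPolar f T) (hs : ∀ v, v ≠ 0 → T v v ≠ 0)
    {v : Fin 3 → k} (hv : Star T v) :
    ∃ w : Fin 3 → k, LinearIndependent k ![v, w] ∧
      ∀ t : k, eval (v + t • w) f = t ^ 3 * eval w f := by
  obtain ⟨m, hm1, hm⟩ := hv.exists_m h hs
  have hrk := ((T v v).prod m).finrank_range_add_finrank_ker
  have hle := Submodule.finrank_le (LinearMap.range ((T v v).prod m))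
  rw [Module.finrank_prod, Module.finrank_self] at hle
  rw [Module.finrank_fintype_fun_eq_card, Fintype.card_fin] at hrk
  have : LinearMap.ker ((T v v).prod m) ≠ ⊥ := fun h0 => by
    rw [h0, finrank_bot] at hrk; omega
  obtain ⟨w, hw, hw0⟩ := Submodule.exists_mem_ne_zero_of_ne_bot this
  replace hw : T v v w = 0 ∧ m w = 0 := by simpa using hw
  refine ⟨w, LinearIndependent.pair_iff.2 fun s t hst => ?_, fun t => ?_⟩
  · have hs0 : s = 0 := by simpa [hm1, hw.2] using congrArg m hst
    rw [hs0, zero_smul, zero_add, smul_eq_zero] at hst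
    exact ⟨hs0, hst.resolve_right hw0⟩
  · rw [h.eval_add_smul, h.eval_eq v, hv.2.1, hm w w, hw.1]
    ring

/-- A smooth plane cubic contains no line. -/
theorem not_forall_span [IsAlgClosed k] (h : IsPolar f T) (hs : ∀ v, v ≠ 0 → T v v ≠ 0)
    {v w : Fin 3 → k} (hi : LinearIndependent k ![v, w]) :
    ¬ ∀ u ∈ Submodule.span k {v, w}, eval u f = 0 := by
  intro hL
  have hne : v ≠ 0 := by simpa using hi.ne_zero 0
  have hvw : T v v w = 0 ∧ T v v v = 0 := ⟨h.eq_zero_of_eval_eq_zero hL
    (Submodule.subset_span (by simp)) (Submodule.subset_span (by simp))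
    (Submodule.subset_span (by simp)), h.eq_zero_of_eval_eq_zero hL
    (Submodule.subset_span (by simp)) (Submodule.subset_span (by simp))
    (Submodule.subset_span (by simp))⟩
  obtain ⟨x, hx, hxf⟩ := exists_eval_ne_zero_of_ker h hs (by simp) (T v v)
  obtain ⟨a, b, rfl⟩ := span_eq_ker₂ (hs v hne) hi hvw.2 hvw.1 hx
  exact hxf (hL _ (Submodule.mem_span_pair.2 ⟨a, b, rfl⟩))

/-- A projective automorphism carrying one flex to another. -/
theorem exists_auto_map [IsAlgClosed k] (h : IsPolar f T) (hs : ∀ v, v ≠ 0 → T v v ≠ 0)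
    {v v' : Fin 3 → k} (hv : Star T v) (hv' : Star T v') :
    ∃ (g g' : (Fin 3 → k) →ₗ[k] (Fin 3 → k)) (c : k), (∀ x, g' (g x) = x) ∧
      (∀ x, g (g' x) = x) ∧ (∀ x, eval (g x) f = c * eval x f) ∧ ∃ d : k, g v = d • v' := by
  by_cases hi : LinearIndependent k ![v, v']
  · have hL := not_forall_span h hs hi
    obtain ⟨s, z, hs0, rfl, hz, -⟩ := chord_third h hs hv hv' hL
    have hind := LinearIndependent.pair_iff.1 hi
    -- the reflection at the third point exchanges `v` and `v'`
    obtain ⟨m, hm1, hm⟩ := hz.exists_m h hs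
    have hLz : T (v' + s • v) (v' + s • v) v ≠ 0 := fun h0 => by
      refine hL fun u hu => (forall_span_iff h hz (by rw [h.eval_eq, hv.2.1])).2 h0 u ?_
      obtain ⟨a, b, rfl⟩ := Submodule.mem_span_pair.1 hu
      exact Submodule.mem_span_pair.2 ⟨b, a - b * s, by module⟩
    set g := refl m (v' + s • v)
    refine ⟨g, g, 1, refl_refl hm1, refl_refl hm1,
      fun x => by rw [hz.eval_refl h hm, one_mul], ?_⟩
    have hgv : g v = v + (-(T (v' + s • v) v v / T (v' + s • v) (v' + s • v) v)) • (v' + s • v) :=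
      refl_chord h hm hLz
    have hstar := hv.map h (g := g) (refl_refl hm1) (refl_refl hm1) one_ne_zero
      (fun x => by rw [hz.eval_refl h hm, one_mul])
    set r := -(T (v' + s • v) v v / T (v' + s • v) (v' + s • v) v)
    have hr : r ≠ 0 := by
      refine neg_ne_zero.2 (div_ne_zero ?_ hLz)
      rw [h.symm₃ (v' + s • v) v v, map_add, map_smul, hv.2.1, smul_zero, add_zero]
      exact fun h0 => hL ((forall_span_iff h hv (by rw [h.eval_eq, hv'.2.1])).2 h0)
    have h0 := eval_comb h hv (e' := v') (by rw [h.eval_eq, hv'.2.1]) (1 + r * s) r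
    have hgv' : g v = (1 + r * s) • v + r • v' := by rw [hgv]; module
    rw [← hgv', h.eval_eq, hstar.2.1] at h0
    rcases mul_eq_zero.1 h0.symm with h1 | h1
    · have : 1 + r * s = 0 := by simpa [hr] using h1
      exact ⟨r, by rw [hgv', this, zero_smul, zero_add]⟩
    · -- then `g v` would be the third point
      exfalso
      have hz0 := eval_comb h hv (e' := v') (by rw [h.eval_eq, hv'.2.1]) s 1
      rw [show s • v + (1 : k) • v' = v' + s • v by module, h.eval_eq, hz.2.1] at hz0
      have h2 : s * T v v v' + 1 * T v v' v' = 0 := (mul_eq_zero.1 hz0.symm).resolve_left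
        (by simp [hs0])
      have h3 : T v v v' ≠ 0 := fun h3 =>
        hL ((forall_span_iff h hv (by rw [h.eval_eq, hv'.2.1])).2 h3)
      have h4 : (1 + r * s - r * s) * T v v v' = 0 := by linear_combination h1 - r * h2
      rw [add_sub_cancel_right, one_mul] at h4
      exact h3 h4
  · rw [LinearIndependent.pair_iff] at hi
    push Not at hi
    obtain ⟨a, b, hab, hne⟩ := hi
    refine ⟨LinearMap.id, LinearMap.id, 1, fun _ => rfl, fun _ => rfl,
      fun x => (one_mul _).symm, ?_⟩
    have ha : a ≠ 0 := fun ha => by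
      rw [ha, zero_smul, zero_add, smul_eq_zero] at hab
      exact hne ha (hab.resolve_right hv'.1)
    exact ⟨-(b / a), by
      rw [LinearMap.id_apply]
      have : v = a⁻¹ • (-(b • v')) := by
        rw [eq_inv_smul_iff₀ ha]; linear_combination (norm := module) hab
      rw [this]; module⟩

end Groth.Agent.H83.Cubic
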