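import Mathlib.RingTheory.MvPolynomial.Homogeneous
import Mathlib.Algebra.MvPolynomial.PDeriv
import Mathlib.Algebra.MvPolynomial.Funext
import Mathlib.LinearAlgebra.Matrix.ToLin
import Mathlib.FieldTheory.IsAlgClosed.Basic
import Mathlib.LinearAlgebra.Dimension.Constructions
import Mathlib.Tactic.LinearCombination
import Mathlib.FieldTheory.IsAlgClosed.AlgebraicClosure

/-!
# Cubic forms as symmetric trilinear forms

* `exists_isPolar`: the polarisation `T` of a homogeneous cubic `f`;
* `eval_subst`, `subst_eq_iff`: linear substitutions;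
* `Smooth`, `not_forall_eq_zero_on_ker`: a smooth cubic contains no hyperplane (dimension ≥ 3).
-/

set_option autoImplicit false

universe u v

open MvPolynomial

set_option linter.unusedSectionVars false
set_option linter.unusedSimpArgs false

namespace Groth.Agent.H83.Cubic

variable {k : Type u} [Field k] {ι : Type v} [Fintype ι]

/-- `T` is the polarisation of the cubic form `f`. -/
structure IsPolar (f : MvPolynomial ι k) (T : (ι → k) →ₗ[k] (ι → k) →ₗ[k] (ι → k) →ₗ[k] k) : Prop where
  symm₁ : ∀ x y z, T x y z = T y x z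
  symm₂ : ∀ x y z, T x y z = T x z y
  eval_eq : ∀ x, eval x f = T x x x
  grad : ∀ x y, ∑ i, y i * eval x (pderiv i f) = 3 * T x x y

/-- The rank one trilinear form of three coordinates. -/
noncomputable def coordT (a b c : ι) : (ι → k) →ₗ[k] (ι → k) →ₗ[k] (ι → k) →ₗ[k] k :=
  (LinearMap.proj a).smulRight ((LinearMap.proj b).smulRight (LinearMap.proj c))

theorem coordT_apply (a b c : ι) (x y z : ι → k) : coordT a b c x y z = x a * (y b * z c) := rfl

variable [CharZero k]

theorem exists_isPolar {f : MvPolynomial ι k} (hf : f.IsHomogeneous 3) : ∃ T, IsPolar f T := by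
  classical
  suffices h : ∀ d ∈ f.support, ∃ T, IsPolar (monomial d (f.coeff d)) T by
    choose T hT using h
    suffices key : IsPolar (∑ d ∈ f.support, monomial d (f.coeff d))
        (f.support.attach.sum fun d : {x // x ∈ f.support} => T d.1 d.2) by rw [← f.as_sum] at key; exact ⟨_, key⟩
    refine ⟨?_, ?_, ?_, ?_⟩
    · intro x y z
      simp only [LinearMap.sum_apply]
      exact Finset.sum_congr rfl fun d _ => (hT d.1 d.2).symm₁ x y z
    · intro x y z
      simp only [LinearMap.sum_apply]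
      exact Finset.sum_congr rfl fun d _ => (hT d.1 d.2).symm₂ x y z
    · intro x
      rw [← Finset.sum_attach, map_sum]
      simp only [LinearMap.sum_apply]
      exact Finset.sum_congr rfl fun d _ => (hT d.1 d.2).eval_eq x
    · intro x y
      rw [← Finset.sum_attach f.support]
      simp only [map_sum, LinearMap.sum_apply, Finset.mul_sum]
      rw [Finset.sum_comm]
      exact Finset.sum_congr rfl fun d _ => (hT d.1 d.2).grad x y
  intro d hd
  have hcard : (Finsupp.toMultiset d).card = 3 := by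
    rw [Finsupp.card_toMultiset]
    have := hf.degree_eq_sum_deg_support hd
    exact this ▸ rfl
  obtain ⟨a, b, c, habc⟩ := Multiset.card_eq_three.1 hcard
  have hd' : d = Finsupp.single a 1 + Finsupp.single b 1 + Finsupp.single c 1 := by
    have := congrArg Multiset.toFinsupp habc
    rw [Finsupp.toMultiset_toFinsupp] at this
    rw [this]
    simp only [Multiset.insert_eq_cons, ← Multiset.singleton_add, Multiset.toFinsupp_add,
      Multiset.toFinsupp_singleton, add_assoc]
  set r := f.coeff d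
  refine ⟨(r / 6) • (coordT a b c + coordT a c b + coordT b a c + coordT b c a + coordT c a b +
    coordT c b a), fun x y z => ?_, fun x y z => ?_, fun x => ?_, fun x y => ?_⟩
  · simp only [LinearMap.smul_apply, LinearMap.add_apply, coordT_apply, smul_eq_mul]; ring
  · simp only [LinearMap.smul_apply, LinearMap.add_apply, coordT_apply, smul_eq_mul]; ring
  all_goals
    have hm : monomial d r = C r * (X a * X b * X c) := by
      rw [hd', X, X, X, monomial_mul, monomial_mul, C_mul_monomial]; simp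
  · rw [hm]
    simp only [LinearMap.smul_apply, LinearMap.add_apply, coordT_apply, smul_eq_mul, map_mul,
      eval_C, eval_X]
    ring
  · have hmul : ∀ p q : MvPolynomial ι k, ∑ i, y i * eval x (pderiv i (p * q)) =
        eval x q * ∑ i, y i * eval x (pderiv i p) + eval x p * ∑ i, y i * eval x (pderiv i q) := by
      intro p q
      rw [Finset.mul_sum, Finset.mul_sum, ← Finset.sum_add_distrib]
      refine Finset.sum_congr rfl fun i _ => ?_
      rw [pderiv_mul, map_add, map_mul, map_mul]
      ring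
    have hX : ∀ e, ∑ i, y i * eval x (pderiv i (X e : MvPolynomial ι k)) = y e := fun e => by
      simp [pderiv_X, Pi.single_apply, apply_ite]
    have hC : ∑ i, y i * eval x (pderiv i (C r : MvPolynomial ι k)) = 0 := by simp
    rw [hm, hmul, hmul, hmul, hX, hX, hX, hC]
    simp only [LinearMap.smul_apply, LinearMap.add_apply, coordT_apply, smul_eq_mul, map_mul,
      eval_C, eval_X]
    ring

namespace IsPolar

variable {f : MvPolynomial ι k} {T : (ι → k) →ₗ[k] (ι → k) →ₗ[k] (ι → k) →ₗ[k] k}

theorem symm₃ (h : IsPolar f T) (x y z : ι → k) : T x y z = T z y x := by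
  rw [h.symm₁, h.symm₂, h.symm₁]

theorem eval_add (h : IsPolar f T) (x y : ι → k) :
    eval (x + y) f = eval x f + 3 * T x x y + 3 * T x y y + eval y f := by
  simp only [h.eval_eq, map_add, LinearMap.add_apply]
  linear_combination h.symm₂ x y x + h.symm₁ y x x + h.symm₂ x y x + h.symm₁ y x y +
    h.symm₂ y y x + h.symm₁ y x y

theorem eval_add_smul (h : IsPolar f T) (x y : ι → k) (t : k) :
    eval (x + t • y) f = eval x f + 3 * t * T x x y + 3 * t ^ 2 * T x y y + t ^ 3 * eval y f := by
  rw [h.eval_add]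
  simp only [h.eval_eq, map_smul, LinearMap.smul_apply, smul_eq_mul]
  ring

theorem smul_eval (h : IsPolar f T) (x : ι → k) (t : k) : eval (t • x) f = t ^ 3 * eval x f := by
  simp only [h.eval_eq, map_smul, LinearMap.smul_apply, smul_eq_mul]
  ring

/-- A subspace on which `f` vanishes is isotropic for the polarisation. -/
theorem eq_zero_of_eval_eq_zero (h : IsPolar f T) {U : Submodule k (ι → k)}
    (hU : ∀ u ∈ U, eval u f = 0) {x y z : ι → k} (hx : x ∈ U) (hy : y ∈ U) (hz : z ∈ U) :
    T x y z = 0 := by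
  have h2 : ∀ a ∈ U, ∀ b ∈ U, T a a b = 0 := by
    intro a ha b hb
    have e1 := h.eval_add a b
    have e2 := h.eval_add_smul a b (-1)
    rw [hU _ (U.add_mem ha hb), hU a ha, hU b hb] at e1
    rw [hU _ (U.add_mem ha (U.smul_mem _ hb)), hU a ha, hU b hb] at e2
    linear_combination ((-1 : k) / 6) * e1 + ((1 : k) / 6) * e2
  have e := h2 (x + y) (U.add_mem hx hy) z hz
  simp only [map_add, LinearMap.add_apply, h2 x hx z hz, h2 y hy z hz, h.symm₁ y x z] at e
  linear_combination ((1 : k) / 2) * e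

theorem smooth (h : IsPolar f T)
    (hsm : ∀ v : ι → k, v ≠ 0 → eval v f = 0 → ∃ i, eval v (pderiv i f) ≠ 0) :
    ∀ v : ι → k, v ≠ 0 → T v v ≠ 0 := by
  classical
  intro v hv h0
  obtain ⟨i, hi⟩ := hsm v hv (by rw [h.eval_eq, h0]; rfl)
  have := h.grad v (Pi.single i 1)
  simp only [h0, LinearMap.zero_apply, mul_zero, Pi.single_apply, ite_mul, one_mul, zero_mul,
    Finset.sum_ite_eq', Finset.mem_univ, if_true] at this
  exact hi this

end IsPolar

section Subst

theorem eval_subst (f : MvPolynomial ι k) (A : Matrix ι ι k) (x : ι → k) :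
    eval x (aeval (fun i => ∑ j, C (A i j) * X j) f) = eval (A.mulVec x) f := by
  induction f using MvPolynomial.induction_on with
  | C a => simp
  | add p q hp hq => simp only [map_add, hp, hq]
  | mul_X p i hp => simp [map_mul, hp, Matrix.mulVec, dotProduct, map_sum]

theorem subst_eq_iff (f g : MvPolynomial ι k) (A : Matrix ι ι k) (c : k) :
    aeval (fun i => ∑ j, C (A i j) * X j) f = C c * g ↔
      ∀ x, eval (A.mulVec x) f = c * eval x g := by
  constructor
  · intro h x
    rw [← eval_subst, h, map_mul, eval_C]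
  · intro h
    have : Infinite k := Infinite.of_injective Nat.cast Nat.cast_injective
    refine MvPolynomial.funext fun x => ?_
    rw [eval_subst, h, map_mul, eval_C]

end Subst

section Smooth

variable {f : MvPolynomial ι k} {T : (ι → k) →ₗ[k] (ι → k) →ₗ[k] (ι → k) →ₗ[k] k}

omit [CharZero k] in
theorem exists_zero_quadratic [IsAlgClosed k] (a b c : k) :
    ∃ x y : k, (x ≠ 0 ∨ y ≠ 0) ∧ a * x ^ 2 + b * (x * y) + c * y ^ 2 = 0 := by
  by_cases ha : a = 0
  · exact ⟨1, 0, Or.inl one_ne_zero, by simp [ha]⟩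
  · obtain ⟨x, hx⟩ := IsAlgClosed.exists_root
      (Polynomial.C a * Polynomial.X ^ 2 + Polynomial.C b * Polynomial.X + Polynomial.C c)
      (by rw [Polynomial.degree_quadratic ha]; exact two_ne_zero)
    refine ⟨x, 1, Or.inr one_ne_zero, ?_⟩
    simpa [Polynomial.IsRoot.def] using hx

omit [CharZero k] [Fintype ι] in
theorem exists_smul_eq_of_ker (φ ψ : (ι → k) →ₗ[k] k) (h : ∀ y, φ y = 0 → ψ y = 0) :
    ∃ c : k, ∀ y, ψ y = c * φ y := by
  by_cases hφ : ∀ y, φ y = 0
  · exact ⟨0, fun y => by rw [h y (hφ y), zero_mul]⟩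
  · push Not at hφ
    obtain ⟨y₀, hy₀⟩ := hφ
    refine ⟨ψ y₀ / φ y₀, fun y => ?_⟩
    have := h (y - (φ y / φ y₀) • y₀) (by simp [hy₀])
    simp only [map_sub, map_smul, smul_eq_mul, sub_eq_zero] at this
    rw [this]; ring

omit [CharZero k] in
/-- A smooth cubic has no line along which all gradients are proportional. -/
theorem no_pencil [IsAlgClosed k] (h : IsPolar f T) (hs : ∀ v : ι → k, v ≠ 0 → T v v ≠ 0)
    (φ : (ι → k) →ₗ[k] k) (h₁ h₂ : ι → k) (hind : ∀ a b : k, a • h₁ + b • h₂ = 0 → a = 0 ∧ b = 0)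
    (h11 : ∀ y, φ y = 0 → T h₁ h₁ y = 0) (h12 : ∀ y, φ y = 0 → T h₁ h₂ y = 0)
    (h22 : ∀ y, φ y = 0 → T h₂ h₂ y = 0) : False := by
  obtain ⟨c₁, hc₁⟩ := exists_smul_eq_of_ker φ (T h₁ h₁) h11
  obtain ⟨c₂, hc₂⟩ := exists_smul_eq_of_ker φ (T h₁ h₂) h12
  obtain ⟨c₃, hc₃⟩ := exists_smul_eq_of_ker φ (T h₂ h₂) h22
  obtain ⟨a, b, hab, he⟩ := exists_zero_quadratic c₁ (2 * c₂) c₃
  refine hs (a • h₁ + b • h₂) (fun h0 => ?_) (LinearMap.ext fun y => ?_)
  · obtain ⟨ha, hb⟩ := hind a b h0
    rcases hab with h | h <;> contradiction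
  · simp only [map_add, map_smul, LinearMap.add_apply, LinearMap.smul_apply, smul_eq_mul,
      LinearMap.zero_apply, hc₁, hc₂, hc₃, h.symm₁ h₂ h₁ y]
    linear_combination φ y * he

omit [CharZero k] [Fintype ι] in
theorem exists_indep_of_two_le {U : Submodule k (ι → k)} [FiniteDimensional k U]
    (h : 2 ≤ Module.finrank k U) :
    ∃ h₁ h₂, h₁ ∈ U ∧ h₂ ∈ U ∧ ∀ a b : k, a • h₁ + b • h₂ = 0 → a = 0 ∧ b = 0 := by
  obtain ⟨w, hw⟩ := exists_linearIndependent_of_le_finrank h
  refine ⟨w 0, w 1, (w 0).2, (w 1).2, fun a b e => ?_⟩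
  have := Fintype.linearIndependent_iff.1 hw ![a, b]
    (Subtype.ext (by simpa [Fin.sum_univ_two] using e))
  exact ⟨this 0, this 1⟩

/-- A smooth cubic in at least three variables contains no hyperplane. -/
theorem exists_eval_ne_zero_of_ker [IsAlgClosed k] (h : IsPolar f T)
    (hs : ∀ v : ι → k, v ≠ 0 → T v v ≠ 0) (hn : 3 ≤ Fintype.card ι) (φ : (ι → k) →ₗ[k] k) :
    ∃ x, φ x = 0 ∧ eval x f ≠ 0 := by
  by_contra hc
  push Not at hc
  have hrk := φ.finrank_range_add_finrank_ker
  have hle : Module.finrank k (LinearMap.range φ) ≤ 1 :=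
    (Submodule.finrank_le _).trans (Module.finrank_self k).le
  rw [Module.finrank_fintype_fun_eq_card] at hrk
  obtain ⟨h₁, h₂, m₁, m₂, hind⟩ := exists_indep_of_two_le (U := LinearMap.ker φ) (by omega)
  have hz : ∀ {x y z : ι → k}, φ x = 0 → φ y = 0 → φ z = 0 → T x y z = 0 := fun hx hy hz =>
    h.eq_zero_of_eval_eq_zero (U := LinearMap.ker φ) (fun u hu => hc u hu) hx hy hz
  exact no_pencil h hs φ h₁ h₂ hind (fun y hy => hz m₁ m₁ hy) (fun y hy => hz m₁ m₂ hy)
    (fun y hy => hz m₂ m₂ hy)

end Smooth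

end Groth.Agent.H83.Cubic
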