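import Groth.Agent.H83.Cubic.Polar

/-!
# Star points of cubic forms (flexes of plane cubics, Eckardt points of cubic surfaces)

A point `e` is a star point when the tangent hyperplane section is a cone with vertex `e`, i.e.
`T e x y = 0` on the tangent hyperplane `ker (T e e)`.  Such a point carries a unique reflection
preserving the cubic, and the reflection moves a second star point to the third point of the line.
-/

set_option autoImplicit false
set_option linter.unusedSectionVars false

universe u v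

open MvPolynomial

namespace Groth.Agent.H83.Cubic

variable {k : Type u} [Field k] [CharZero k] {ι : Type v} [Fintype ι]
variable {f : MvPolynomial ι k} {T : (ι → k) →ₗ[k] (ι → k) →ₗ[k] (ι → k) →ₗ[k] k}

/-- `e` is a star point: its tangent section is a cone with vertex `e`. -/
def Star (T : (ι → k) →ₗ[k] (ι → k) →ₗ[k] (ι → k) →ₗ[k] k) (e : ι → k) : Prop :=
  e ≠ 0 ∧ T e e e = 0 ∧ ∀ x y, T e e x = 0 → T e e y = 0 → T e x y = 0

/-- The reflection with vector `e` and functional `μ`. -/
noncomputable def refl (μ : (ι → k) →ₗ[k] k) (e : ι → k) : (ι → k) →ₗ[k] (ι → k) :=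
  LinearMap.id - (2 : k) • μ.smulRight e

theorem refl_apply (μ : (ι → k) →ₗ[k] k) (e x : ι → k) : refl μ e x = x + (-2 * μ x) • e := by
  simp [refl, smul_smul, sub_eq_add_neg]

theorem refl_refl {μ : (ι → k) →ₗ[k] k} {e : ι → k} (h : μ e = 1) (x : ι → k) :
    refl μ e (refl μ e x) = x := by
  rw [refl_apply, refl_apply]
  simp only [map_add, map_smul, smul_eq_mul, h]
  module

theorem refl_self {μ : (ι → k) →ₗ[k] k} {e : ι → k} (h : μ e = 1) : refl μ e e = -e := by
  rw [refl_apply, h]; module

theorem exists_apply_eq_one {φ : (ι → k) →ₗ[k] k} (h : φ ≠ 0) : ∃ y, φ y = 1 := by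
  by_contra hc
  push Not at hc
  refine h (LinearMap.ext fun y => ?_)
  by_contra hy
  exact hc ((φ y)⁻¹ • y) (by simp only [map_smul, smul_eq_mul]; exact inv_mul_cancel₀ hy)

namespace IsPolar

/-- The polarisation is determined by the values. -/
theorem six_mul (h : IsPolar f T) (x y z : ι → k) :
    6 * T x y z = eval (x + y + z) f - eval (x + y) f - eval (x + z) f - eval (y + z) f
      + eval x f + eval y f + eval z f := by
  rw [h.eval_add (x + y) z, h.eval_add x y, h.eval_add x z, h.eval_add y z]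
  simp only [map_add, LinearMap.add_apply, h.symm₁ y x z]
  ring

/-- A linear map scaling `f` scales the polarisation. -/
theorem map_eq (h : IsPolar f T) {g : (ι → k) →ₗ[k] (ι → k)} {c : k}
    (hg : ∀ x, eval (g x) f = c * eval x f) (x y z : ι → k) :
    T (g x) (g y) (g z) = c * T x y z := by
  have e1 := h.six_mul (g x) (g y) (g z)
  simp only [← map_add, hg] at e1
  linear_combination ((1 : k) / 6) * e1 - (c / 6) * h.six_mul x y z

end IsPolar

namespace Star

variable {e : ι → k}

theorem exists_m (h : IsPolar f T) (hs : ∀ v : ι → k, v ≠ 0 → T v v ≠ 0) (he : Star T e) :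
    ∃ m : (ι → k) →ₗ[k] k, m e = 1 ∧ ∀ x y, T e x y = T e e x * m y + m x * T e e y := by
  obtain ⟨y₀, hy₀⟩ := exists_apply_eq_one (hs e he.1)
  refine ⟨T e y₀ - (T e y₀ y₀ / 2) • T e e, ?_, fun x y => ?_⟩
  · rw [LinearMap.sub_apply, LinearMap.smul_apply, he.2.1, h.symm₂ e y₀ e, hy₀]
    simp
  · have h0 := he.2.2 (x - T e e x • y₀) (y - T e e y • y₀) (by simp [hy₀]) (by simp [hy₀])
    simp only [map_sub, map_smul, LinearMap.sub_apply, LinearMap.smul_apply, smul_eq_mul,
      h.symm₂ e x y₀] at h0 ⊢
    linear_combination h0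

theorem of_m (h : IsPolar f T) (hne : e ≠ 0) (hfe : eval e f = 0) (m : (ι → k) →ₗ[k] k)
    (hm : ∀ x y, T e x y = T e e x * m y + m x * T e e y) : Star T e :=
  ⟨hne, by rw [← h.eval_eq, hfe], fun x y hx hy => by rw [hm, hx, hy]; ring⟩

theorem eval_refl (h : IsPolar f T) (he : Star T e) {m : (ι → k) →ₗ[k] k}
    (hm : ∀ x y, T e x y = T e e x * m y + m x * T e e y) (x : ι → k) :
    eval (refl m e x) f = eval x f := by
  rw [refl_apply, h.eval_add_smul, h.eval_eq e, he.2.1]
  have e1 : T x x e = 2 * (T e e x * m x) := by rw [h.symm₃ x x e, hm]; ring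
  have e2 : T x e e = T e e x := by rw [h.symm₃ x e e]
  rw [e1, e2]
  ring

end Star

/-- A reflection scaling a smooth cubic in at least three variables fixes it, and its functional
splits `T e`. -/
theorem of_refl [IsAlgClosed k] (h : IsPolar f T) (hs : ∀ v : ι → k, v ≠ 0 → T v v ≠ 0)
    (hn : 3 ≤ Fintype.card ι) {e : ι → k} (hfe : eval e f = 0) {μ : (ι → k) →ₗ[k] k} (hμ : μ e = 1)
    {c : k} (hc : ∀ x, eval (refl μ e x) f = c * eval x f) :
    c = 1 ∧ ∀ x y, T e x y = T e e x * μ y + μ x * T e e y := by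
  obtain ⟨x₀, hx₀, hx₀f⟩ := exists_eval_ne_zero_of_ker h hs hn μ
  have hc1 : c = 1 := by
    have := hc x₀
    rw [refl_apply, hx₀, mul_zero, zero_smul, add_zero] at this
    exact (mul_right_cancel₀ hx₀f (by rw [one_mul]; exact this)).symm
  refine ⟨hc1, ?_⟩
  have hfe' : T e e e = 0 := by rw [← h.eval_eq, hfe]
  have key : ∀ x, μ x * (T x x e - 2 * μ x * T e e x) = 0 := by
    intro x
    have := hc x
    rw [refl_apply, h.eval_add_smul, hfe, hc1, h.symm₃ x e e] at this
    linear_combination ((-1 : k) / 6) * this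
  have hq : ∀ x, T e x x = 2 * μ x * T e e x := by
    intro x
    rw [h.symm₃ e x x]
    by_cases hx : μ x = 0
    · have h2 := key (x + e)
      simp only [map_add, LinearMap.add_apply, hμ, hx, h.symm₃ x e e, h.symm₃ e x e, hfe',
        h.symm₁ e e x, h.symm₂ e x e] at h2
      rw [hx]
      linear_combination h2
    · have := (mul_eq_zero.1 (key x)).resolve_left hx
      linear_combination this
  intro x y
  have h1 := hq (x + y)
  simp only [map_add, LinearMap.add_apply, h.symm₂ e y x, hq x, hq y] at h1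
  linear_combination ((1 : k) / 2) * h1

/-- Uniqueness of the functional. -/
theorem m_unique (hs : ∀ v : ι → k, v ≠ 0 → T v v ≠ 0) {e : ι → k} (he : e ≠ 0)
    {m μ : (ι → k) →ₗ[k] k} (hm : ∀ x y, T e x y = T e e x * m y + m x * T e e y)
    (hμ : ∀ x y, T e x y = T e e x * μ y + μ x * T e e y) : m = μ := by
  obtain ⟨y₀, hy₀⟩ := exists_apply_eq_one (hs e he)
  have h0 : m y₀ = μ y₀ := by
    have := (hm y₀ y₀).symm.trans (hμ y₀ y₀)
    rw [hy₀] at this
    linear_combination ((1 : k) / 2) * this
  refine LinearMap.ext fun x => ?_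
  have := (hm x y₀).symm.trans (hμ x y₀)
  rw [hy₀, h0] at this
  linear_combination this

/-- An automorphism maps star points to star points. -/
theorem Star.map (h : IsPolar f T) {g g' : (ι → k) →ₗ[k] (ι → k)} (hgg : ∀ x, g' (g x) = x)
    (hgg' : ∀ x, g (g' x) = x) {c : k} (hc : c ≠ 0) (hg : ∀ x, eval (g x) f = c * eval x f)
    {e : ι → k} (he : Star T e) : Star T (g e) := by
  refine ⟨fun h0 => he.1 (by rw [← hgg e, h0, map_zero]), by rw [h.map_eq hg, he.2.1, mul_zero],
    fun x y hx hy => ?_⟩
  rw [← hgg' x] at hx ⊢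
  rw [← hgg' y] at hy ⊢
  rw [h.map_eq hg] at hx hy ⊢
  rw [he.2.2 _ _ ((mul_eq_zero.1 hx).resolve_left hc) ((mul_eq_zero.1 hy).resolve_left hc),
    mul_zero]

section Chord

variable {e e' : ι → k}

theorem eval_comb (h : IsPolar f T) (he : Star T e) (he' : eval e' f = 0) (a b : k) :
    eval (a • e + b • e') f = 3 * a * b * (a * T e e e' + b * T e e' e') := by
  rw [h.eval_add_smul, h.smul_eval, h.eval_eq e, he.2.1, he']
  simp only [map_smul, LinearMap.smul_apply, smul_eq_mul]
  ring

theorem forall_span_iff (h : IsPolar f T) (he : Star T e) (he' : eval e' f = 0) :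
    (∀ u ∈ Submodule.span k {e, e'}, eval u f = 0) ↔ T e e e' = 0 := by
  constructor
  · intro hu
    exact h.eq_zero_of_eval_eq_zero hu (Submodule.subset_span (by simp))
      (Submodule.subset_span (by simp)) (Submodule.subset_span (by simp))
  · intro h0 u hu
    obtain ⟨a, b, rfl⟩ := Submodule.mem_span_pair.1 hu
    rw [eval_comb h he he', h0, he.2.2 e' e' h0 h0]
    ring

/-- The reflection at `e` sends a point `e'` of the cubic to the third point of the line. -/
theorem refl_chord (h : IsPolar f T) {m : (ι → k) →ₗ[k] k}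
    (hm : ∀ x y, T e x y = T e e x * m y + m x * T e e y) (h0 : T e e e' ≠ 0) :
    refl m e e' = e' + (-(T e e' e' / T e e e')) • e := by
  rw [refl_apply, hm e' e']
  congr 2
  field_simp
  ring

/-- The third point on the chord of two star points is a star point, and the cubic meets the
chord only in the three points. -/
theorem chord_third (h : IsPolar f T) (hs : ∀ v : ι → k, v ≠ 0 → T v v ≠ 0) (he : Star T e)
    (he' : Star T e') (hL : ¬ ∀ u ∈ Submodule.span k {e, e'}, eval u f = 0) :
    ∃ (s : k) (z : ι → k), s ≠ 0 ∧ z = e' + s • e ∧ Star T z ∧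
      ∀ u ∈ Submodule.span k {e, e'}, eval u f = 0 →
        u ∈ Submodule.span k {e} ∨ u ∈ Submodule.span k {e'} ∨ u ∈ Submodule.span k {z} := by
  have hfe' : eval e' f = 0 := by rw [h.eval_eq, he'.2.1]
  have hfe : eval e f = 0 := by rw [h.eval_eq, he.2.1]
  have h0 : T e e e' ≠ 0 := fun h0 => hL ((forall_span_iff h he hfe').2 h0)
  have h0' : T e' e' e ≠ 0 := fun h0 => hL (by
    rw [Set.pair_comm]; exact (forall_span_iff h he' hfe).2 h0)
  rw [h.symm₃ e' e' e] at h0'
  obtain ⟨m, hm1, hm⟩ := he.exists_m h hs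
  refine ⟨-(T e e' e' / T e e e'), e' + (-(T e e' e' / T e e e')) • e,
    neg_ne_zero.2 (div_ne_zero h0' h0), rfl, ?_, fun u hu huf => ?_⟩
  · rw [← refl_chord h hm h0]
    exact he'.map h (refl_refl hm1) (refl_refl hm1) one_ne_zero
      (fun x => by rw [he.eval_refl h hm, one_mul])
  · obtain ⟨a, b, rfl⟩ := Submodule.mem_span_pair.1 hu
    rw [eval_comb h he hfe'] at huf
    rcases mul_eq_zero.1 huf with h1 | h1
    · rcases mul_eq_zero.1 h1 with h2 | h2
      · rcases mul_eq_zero.1 h2 with h3 | h3
        · norm_num at h3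
        · exact Or.inr (Or.inl (Submodule.mem_span_singleton.2 ⟨b, by simp [h3]⟩))
      · exact Or.inl (Submodule.mem_span_singleton.2 ⟨a, by simp [h2]⟩)
    · refine Or.inr (Or.inr (Submodule.mem_span_singleton.2 ⟨b, ?_⟩))
      have : a = -(b * (T e e' e' / T e e e')) := by field_simp; linear_combination h1
      rw [this]
      module

end Chord

section Matrix

variable [DecidableEq ι]

/-- An involutory matrix with fixed hyperplane is a reflection. -/
theorem exists_refl_of_involution (A : Matrix ι ι k) {e : ι → k} (he : e ≠ 0)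
    (hfin : Module.finrank k ↥(LinearMap.ker (Matrix.toLin' A - LinearMap.id)) + 1 = Fintype.card ι)
    (hAe : A.mulVec e = -e) :
    ∃ μ : (ι → k) →ₗ[k] k, μ e = 1 ∧ ∀ x, A.mulVec x = refl μ e x := by
  set g := Matrix.toLin' A - LinearMap.id
  have hrk := g.finrank_range_add_finrank_ker
  rw [Module.finrank_fintype_fun_eq_card] at hrk
  have hge : g e = (-2 : k) • e := by
    simp only [g, LinearMap.sub_apply, Matrix.toLin'_apply, hAe, LinearMap.id_apply]; module
  have hmem : e ∈ LinearMap.range g :=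
    ⟨(-2 : k)⁻¹ • e, by rw [map_smul, hge, smul_smul]; norm_num⟩
  have hspan : LinearMap.range g = Submodule.span k {e} :=
    (Submodule.eq_of_le_of_finrank_le ((Submodule.span_singleton_le_iff_mem _ _).2 hmem)
      (by rw [finrank_span_singleton he]; omega)).symm
  obtain ⟨i, hi⟩ := Function.ne_iff.1 he
  refine ⟨(-2 * e i : k)⁻¹ • (LinearMap.proj i ∘ₗ g), ?_, fun x => ?_⟩
  · simp only [LinearMap.smul_apply, LinearMap.comp_apply, LinearMap.proj_apply, hge,
      Pi.smul_apply, smul_eq_mul]
    exact inv_mul_cancel₀ (mul_ne_zero (by norm_num) hi)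
  · obtain ⟨r, hr⟩ := Submodule.mem_span_singleton.1 (hspan ▸ LinearMap.mem_range_self g x)
    have hAx : A.mulVec x = x + g x := by simp [g]
    rw [hAx, refl_apply]
    simp only [LinearMap.smul_apply, LinearMap.comp_apply, LinearMap.proj_apply, ← hr,
      Pi.smul_apply, smul_eq_mul]
    congr 2
    field_simp [show e i ≠ 0 from hi]

/-- The matrix of a reflection. -/
theorem exists_matrix_refl (μ : (ι → k) →ₗ[k] k) {e : ι → k} (he : μ e = 1) :
    ∃ A : Matrix ι ι k, (∀ x, A.mulVec x = refl μ e x) ∧ A * A = 1 ∧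
      Module.finrank k ↥(LinearMap.ker (Matrix.toLin' A - LinearMap.id)) + 1 = Fintype.card ι ∧
      A.mulVec e = -e := by
  have hA : ∀ x, (LinearMap.toMatrix' (refl μ e)).mulVec x = refl μ e x := fun x => by
    rw [← Matrix.toLin'_apply, Matrix.toLin'_toMatrix']
  refine ⟨_, hA, Matrix.ext_iff_mulVec.2 fun x => ?_, ?_, by rw [hA, refl_self he]⟩
  · rw [← Matrix.mulVec_mulVec, hA, hA, refl_refl he, Matrix.one_mulVec]
  · have hker : LinearMap.ker (Matrix.toLin' (LinearMap.toMatrix' (refl μ e)) - LinearMap.id) =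
        LinearMap.ker μ := by
      ext x
      have he0 : e ≠ 0 := fun h => by rw [h, map_zero] at he; exact zero_ne_one he
      simp [refl, he0]
    rw [hker]
    have hrk := μ.finrank_range_add_finrank_ker
    have : LinearMap.range μ = ⊤ :=
      LinearMap.range_eq_top.2 fun c => ⟨c • e, by simp [he]⟩
    rw [this, finrank_top, Module.finrank_self, Module.finrank_fintype_fun_eq_card] at hrk
    omega

end Matrix

end Groth.Agent.H83.Cubic
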